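import Cfsg.Agent.H95.Co2Cent.Mod2
import Cfsg.Agent.H95.Co1Words
import Cfsg.Agent.H48.Form

/-!
The centraliser of the sign change maps onto the symplectic group.
-/

set_option autoImplicit false

namespace H95.Co2Cent

open Cfsg Finset

/-- the sign change of the code word with a given number -/
noncomputable def signW (n : ℕ) : Co0 :=
  signEl ⟨H90.wordOf (H90.encode n), H90.wordOf_encode_mem n⟩

theorem signW_coord (n : ℕ) (u : leechLattice) (p : GolayPt) :
    ((signW n • u : leechLattice) : GolayPt → ℤ) p =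
      if (H90.encode n).testBit (H90.idx p).val then -(u : GolayPt → ℤ) p else (u : GolayPt → ℤ) p := by
  rw [signW, signEl_coord]
  cases h : (H90.encode n).testBit (H90.idx p).val <;> simp [H90.wordOf, h]

/-- the sign change on lists -/
def signLW (n : ℕ) (l : List ℤ) : List ℤ :=
  List.ofFn fun i : Fin 24 => if (H90.encode n).testBit i.val then -(l.getD i.val 0) else l.getD i.val 0

theorem vecL_signW (n : ℕ) (u : leechLattice) :
    vecL ((signW n • u : leechLattice) : GolayPt → ℤ) = signLW n (vecL (u : GolayPt → ℤ)) := by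
  unfold signLW
  conv_lhs => unfold vecL
  congr 1
  funext i
  rw [signW_coord, vecL_getD _ i.isLt, H90.idx_pt]

open Classical in
/-- the permutation with a given code -/
noncomputable def permN (p : ℕ) : M24 :=
  if h : ∃ σ : M24, H90.Repr σ.1 p then h.choose else 1

/-- a code of an element of `M24` -/
def permOK (p : ℕ) : Bool := H90.isPerm p && H90.preservesCode p

theorem permN_repr {p : ℕ} (h : permOK p = true) : H90.Repr (permN p).1 p := by
  classical
  simp only [permOK, Bool.and_eq_true] at h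
  obtain ⟨σ, hσ⟩ := H90.exists_repr h.1
  have hex : ∃ σ : M24, H90.Repr σ.1 p :=
    ⟨⟨σ, (H90.mem_M24_iff_preservesCode hσ).mpr h.2⟩, hσ⟩
  rw [permN, dif_pos hex]
  exact hex.choose_spec

/-- preimage of a position -/
def srcOf (p i : ℕ) : ℕ := (List.range 24).findIdx fun j => H90.img p j == i

/-- the permutation on lists -/
def permLW (p : ℕ) (l : List ℤ) : List ℤ := List.ofFn fun i : Fin 24 => l.getD (srcOf p i.val) 0

/-- the preimages are correct -/
def srcOK (p : ℕ) : Bool :=
  (List.range 24).all fun i => decide (srcOf p i < 24) && H90.img p (srcOf p i) == i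

theorem vecL_permN {p : ℕ} (h : permOK p = true) (hs : srcOK p = true) (u : leechLattice) :
    vecL ((permHom (permN p) • u : leechLattice) : GolayPt → ℤ) = permLW p (vecL (u : GolayPt → ℤ)) := by
  have hs' : ∀ i < 24, srcOf p i < 24 ∧ H90.img p (srcOf p i) = i := fun i hi => by
    simpa using List.all_eq_true.mp hs i (List.mem_range.mpr hi)
  exact vecL_perm (fun i hi => (hs' i hi).1) (fun i => H90.idx_injective (Fin.ext (by
    rw [(permN_repr h).apply, H90.idx_pt, H90.idx_pt]
    exact (hs' i.val i.isLt).2))) u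

/-- the sign change on the complement of the octad -/
noncomputable def tEl : Co0 := signW (compN16 % 4096)

theorem comp_word : H90.encode (compN16 % 4096) = compN16 := by decide +kernel

theorem comp_bit : ∀ p : GolayPt, compN16.testBit (H90.idx p).val = !onOct p := by decide +kernel

theorem tEl_coord (u : leechLattice) (p : GolayPt) :
    ((tEl • u : leechLattice) : GolayPt → ℤ) p =
      if onOct p then (u : GolayPt → ℤ) p else -(u : GolayPt → ℤ) p := by
  rw [tEl, signW_coord, comp_word, comp_bit]
  cases onOct p <;> rfl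

theorem mem_fixPart_iff {u : leechLattice} : u ∈ fixPart ↔ tEl • u = u := by
  constructor
  · intro h
    refine Subtype.ext (funext fun p => ?_)
    rw [tEl_coord]
    cases hp : onOct p
    · simp [h p hp]
    · rfl
  · intro h p hp
    have := congrArg (fun w : leechLattice => (w : GolayPt → ℤ) p) h
    simp only [tEl_coord, hp, Bool.false_eq_true, if_false] at this
    omega

/-- the centraliser of the sign change in the stabiliser of the vector -/
noncomputable def centGrp : Subgroup Co0 :=
  Subgroup.centralizer {tEl} ⊓ MulAction.stabilizer Co0 Spor.leechU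

theorem mem_centGrp {h : Co0} :
    h ∈ centGrp ↔ h * tEl = tEl * h ∧ h • Spor.leechU = Spor.leechU := by
  rw [centGrp, Subgroup.mem_inf, Subgroup.mem_centralizer_singleton_iff, MulAction.mem_stabilizer_iff]

theorem smul_mem_fixPart (h : centGrp) {u : leechLattice} (hu : u ∈ fixPart) :
    h.1 • u ∈ fixPart := by
  rw [mem_fixPart_iff] at hu ⊢
  rw [← mul_smul, ← (mem_centGrp.mp h.2).1, mul_smul, hu]

/-- the action on the part -/
noncomputable def act (h : centGrp) : fixPart →+ fixPart :=
  AddMonoidHom.mk' (fun u => ⟨h.1 • u.1, smul_mem_fixPart h u.2⟩)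
    fun a b => Subtype.ext (co0_add h.1 a.1 b.1)

theorem act_perp (h : centGrp) {u : fixPart} (hu : ldot u.1 Spor.leechU = 0) :
    ldot (act h u).1 Spor.leechU = 0 := by
  show ldot (h.1 • u.1) Spor.leechU = 0
  conv_lhs => rw [← (mem_centGrp.mp h.2).2]
  rw [co0_dot, hu]

theorem act_ufix (h : centGrp) : act h ufix = ufix := Subtype.ext (mem_centGrp.mp h.2).2

theorem bfix_perp (j : I6) : ldot (bfix j).1 Spor.leechU = 0 := by
  show ldot (bvec j) Spor.leechU = 0
  rw [ldot_comm, leechU_basis]

theorem psi_twice (w : fixPart) : psi (2 • w) = 0 := by rw [two_nsmul, map_add, zmod2_two]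

/-- the matrix -/
noncomputable def repMat (h : centGrp) : Matrix I6 I6 (ZMod 2) :=
  Matrix.of fun i j => psi (act h (bfix j)) i

theorem psi_act (h : centGrp) {u : fixPart} (hu : ldot u.1 Spor.leechU = 0) :
    psi (act h u) = Matrix.mulVec (repMat h) (psi u) := by
  obtain ⟨n, w, e⟩ := decompose u hu
  conv_lhs => rw [e]
  simp only [map_add, map_sum, map_zsmul, act_ufix, psi_ufix, smul_zero, map_nsmul, two_nsmul,
    zmod2_two, add_zero]
  funext i
  rw [Finset.sum_apply, Matrix.mulVec, dotProduct]
  refine sum_congr rfl fun m _ => ?_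
  rw [Pi.smul_apply, nsmul_eq_mul, ZMod.natCast_val, ZMod.cast_id, mul_comm]
  rfl

theorem sf_psi {u w : fixPart} (hu : ldot u.1 Spor.leechU = 0) (hw : ldot w.1 Spor.leechU = 0) :
    H48.sf (psi u) (psi w) = ((ldot u.1 w.1 / 16 : ℤ) : ZMod 2) := by
  let φ : fixPart →+ ZMod 2 := AddMonoidHom.mk'
    (fun z => ((ldot z.1 w.1 / 16 : ℤ) : ZMod 2)) fun a b => by
      show ((ldot (a.1 + b.1) w.1 / 16 : ℤ) : ZMod 2) = _
      rw [bform_add_left a.2 b.2 w.2, Int.cast_add]
  let χ : fixPart →+ ZMod 2 := ((H48.sf).flip (psi w)).toAddMonoidHom.comp psi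
  show χ u = φ u
  obtain ⟨n, z, e⟩ := decompose u hu
  have hb : ∀ m, χ (bfix m) = φ (bfix m) := fun m => by
    show H48.sf (psi (bfix m)) (psi w) = ((ldot (bvec m) w.1 / 16 : ℤ) : ZMod 2)
    rw [psi_bfix, H48.sf_apply]
    have hneg : ∀ a b : ZMod 2, a - b = a + b := by decide
    have hs : psi w (swap6 m) = ((ldot (bvec m) w.1 / 16 : ℤ) : ZMod 2) := by
      show ((ldot w.1 (bvec (swap6 (swap6 m))) / 16 : ℤ) : ZMod 2) = _
      rw [(show ∀ m : I6, swap6 (swap6 m) = m by decide) m, ldot_comm]
    rw [← hs]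
    rcases m with i | i <;> fin_cases i <;>
      simp [Fin.sum_univ_three, Pi.single_apply, swap6, hneg]
  have hU : χ ufix = φ ufix := by
    show H48.sf (psi ufix) (psi w) = ((ldot Spor.leechU w.1 / 16 : ℤ) : ZMod 2)
    rw [psi_ufix, map_zero, LinearMap.zero_apply, ldot_comm, hw]
    rfl
  have h2 : ∀ f : fixPart →+ ZMod 2, f (2 • z) = 0 := fun f => by
    rw [map_nsmul, two_nsmul]
    exact (show ∀ a : ZMod 2, a + a = 0 by decide) _
  rw [e]
  simp only [map_add, map_sum, map_nsmul, map_zsmul, hb, hU, two_nsmul]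
  have hz : ∀ a : ZMod 2, a + a = 0 := by decide
  simp only [hz]

theorem repMat_mem (h : centGrp) : repMat h ∈ Matrix.symplecticGroup (Fin 3) (ZMod 2) := by
  rw [H48.mem_symplectic_iff]
  intro a b
  let lift : V6 → fixPart := fun a => ∑ m, (a m).val • bfix m
  have hl : ∀ a, psi (lift a) = a := fun a => by
    funext k
    rw [map_sum, Finset.sum_apply, sum_eq_single k]
    · rw [map_nsmul, psi_bfix, Pi.smul_apply, Pi.single_eq_same, nsmul_one, ZMod.natCast_val,
        ZMod.cast_id]
    · intro m _ hm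
      rw [map_nsmul, psi_bfix, Pi.smul_apply, Pi.single_eq_of_ne (Ne.symm hm), smul_zero]
    · intro h; exact absurd (mem_univ k) h
  have hp : ∀ a, ldot (lift a).1 Spor.leechU = 0 := fun a => by
    let φ : fixPart →+ ℤ := AddMonoidHom.mk' (fun z => ldot z.1 Spor.leechU)
      fun a b => leechLike.add_left _ _ _
    show φ (∑ m, (a m).val • bfix m) = 0
    rw [map_sum]
    refine sum_eq_zero fun m _ => ?_
    rw [map_nsmul, show φ (bfix m) = 0 from bfix_perp m, smul_zero]
  conv_rhs => rw [← hl a, ← hl b, sf_psi (hp a) (hp b)]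
  conv_lhs => rw [← hl a, ← hl b, ← psi_act h (hp a), ← psi_act h (hp b),
    sf_psi (act_perp h (hp a)) (act_perp h (hp b))]
  show ((ldot (h.1 • (lift a).1) (h.1 • (lift b).1) / 16 : ℤ) : ZMod 2) = _
  rw [co0_dot]

/-- the representation -/
noncomputable def repHom : centGrp →* Matrix.symplecticGroup (Fin 3) (ZMod 2) where
  toFun h := ⟨repMat h, repMat_mem h⟩
  map_one' := Subtype.ext (Matrix.ext fun i j => by
    show psi (act 1 (bfix j)) i = (1 : Matrix I6 I6 (ZMod 2)) i j
    rw [show act 1 (bfix j) = bfix j from Subtype.ext (one_smul Co0 (bvec j)), psi_bfix,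
      Matrix.one_apply, Pi.single_apply])
  map_mul' a b := Subtype.ext (Matrix.ext fun i j => by
    show psi (act (a * b) (bfix j)) i = (repMat a * repMat b) i j
    rw [show act (a * b) (bfix j) = act a (act b (bfix j)) from
      Subtype.ext (mul_smul a.1 b.1 (bvec j)), psi_act a (act_perp b (bfix_perp j))]
    rfl)

theorem ldot_dotL (u w : leechLattice) :
    ldot u w = dotL (vecL (u : GolayPt → ℤ)) (vecL (w : GolayPt → ℤ)) := by
  show dotInt _ _ = _
  unfold vecL
  rw [dotL_ofFn, dotInt, ← Equiv.sum_comp H90.ptEquiv]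
  refine sum_congr rfl fun i _ => ?_
  rw [List.getD_eq_getElem _ _ (by simp), List.getElem_ofFn]
  rfl

/-- the matrix computed from the images of the basis -/
def matOfL (f : List ℤ → List ℤ) : Matrix I6 I6 (ZMod 2) :=
  Matrix.of fun i j => ((dotL (f (basisL.getD (pos6 j) [])) (basisL.getD (pos6 (swap6 i)) []) / 16 : ℤ) :
    ZMod 2)

theorem vecL_bvec (m : I6) : vecL (bvec m : GolayPt → ℤ) = basisL.getD (pos6 m) [] := by
  have h : ∀ m : I6, vecL (ofL (basisL.getD (pos6 m) [])) = basisL.getD (pos6 m) [] := by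
    decide +kernel
  exact h m

theorem repHom_eq (h : centGrp) (f : List ℤ → List ℤ)
    (hf : ∀ u : leechLattice, vecL ((h.1 • u : leechLattice) : GolayPt → ℤ)
      = f (vecL (u : GolayPt → ℤ))) : (repHom h).1 = matOfL f := by
  refine Matrix.ext fun i j => ?_
  show ((ldot (h.1 • bvec j) (bvec (swap6 i)) / 16 : ℤ) : ZMod 2) = _
  rw [ldot_dotL, hf, vecL_bvec, vecL_bvec]
  rfl

theorem tEl_list (u : leechLattice) :
    vecL ((tEl • u : leechLattice) : GolayPt → ℤ) = signLW (compN16 % 4096) (vecL (u : GolayPt → ℤ)) :=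
  vecL_signW _ u

theorem vecL_leechU : vecL (Spor.leechU : GolayPt → ℤ) =
    List.ofFn fun i : Fin 24 => if i.val = 23 ∨ i.val = 0 then (4 : ℤ) else 0 := by
  show vecL Spor.vecU = _
  decide +kernel

/-- an action on lists commutes with the sign change and fixes the vector -/
def inCentL (f : List ℤ → List ℤ) : Bool :=
  ((List.finRange 24).all fun i =>
    f (signLW (compN16 % 4096) (eightL i)) == signLW (compN16 % 4096) (f (eightL i))) &&
  (f (List.ofFn fun i : Fin 24 => if i.val = 23 ∨ i.val = 0 then (4 : ℤ) else 0) ==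
    List.ofFn fun i : Fin 24 => if i.val = 23 ∨ i.val = 0 then (4 : ℤ) else 0)

theorem mem_of_inCentL {g : Co0} (f : List ℤ → List ℤ)
    (hf : ∀ u : leechLattice, vecL ((g • u : leechLattice) : GolayPt → ℤ)
      = f (vecL (u : GolayPt → ℤ))) (h : inCentL f = true) : g ∈ centGrp := by
  simp only [inCentL, Bool.and_eq_true, List.all_eq_true, beq_iff_eq] at h
  refine mem_centGrp.mpr ⟨eq_of_eights fun i => ?_, eq_of_vecL ?_⟩
  · rw [mul_smul, mul_smul, hf, tEl_list, tEl_list, hf, vecL_eight]
    exact h.1 i (List.mem_finRange _)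
  · rw [hf, vecL_leechU]
    exact h.2

/-- the seeds -/
noncomputable def seedEl (n : ℕ) : Co0 :=
  signW (seedL.getD n (0, 0, [])).2.1 * permHom (permN (seedL.getD n (0, 0, [])).1)

/-- the seeds on lists -/
def seedLW (n : ℕ) (l : List ℤ) : List ℤ :=
  signLW (seedL.getD n (0, 0, [])).2.1 (permLW (seedL.getD n (0, 0, [])).1 l)

theorem seeds_ok : (List.range 7).all (fun n => permOK (seedL.getD n (0, 0, [])).1 &&
    srcOK (seedL.getD n (0, 0, [])).1 && inCentL (seedLW n)) = true := by decide +kernel

theorem seedEl_list {n : ℕ} (hn : n < 7) (u : leechLattice) :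
    vecL ((seedEl n • u : leechLattice) : GolayPt → ℤ) = seedLW n (vecL (u : GolayPt → ℤ)) := by
  have h := List.all_eq_true.mp seeds_ok n (List.mem_range.mpr hn)
  simp only [Bool.and_eq_true] at h
  rw [seedEl, mul_smul, vecL_signW, vecL_permN h.1.1 h.1.2]
  rfl

theorem seedEl_mem {n : ℕ} (hn : n < 7) : seedEl n ∈ centGrp := by
  have h := List.all_eq_true.mp seeds_ok n (List.mem_range.mpr hn)
  simp only [Bool.and_eq_true] at h
  exact mem_of_inCentL _ (seedEl_list hn) h.2

theorem gMat_mem : gMat.elt ∈ centGrp :=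
  mem_of_inCentL (applyL gRows) gMat.vecL_elt (by decide +kernel)

/-- a vector from a list -/
def vec6 (s : List ℕ) : V6 := fun m => ((s.getD (pos6 m) 0 : ℕ) : ZMod 2)

/-- the symplectic form, computed -/
def sf6 (u v : V6) : ZMod 2 :=
  ∑ i : Fin 3, (u (Sum.inr i) * v (Sum.inl i) - u (Sum.inl i) * v (Sum.inr i))

/-- one step of the certificate -/
def stepOK (i : ℕ) : Bool :=
  let r := certL.getD i (0, 0, 0, [])
  let at' := fun a => vec6 (certL.getD a (0, 0, 0, [])).2.2.2
  if r.1 = 0 then
    decide (r.2.1 < 7) && decide (matOfL (seedLW r.2.1) = H48.transMat (vec6 r.2.2.2) 1)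
  else if r.1 = 1 then
    decide (r.2.1 < i) && decide (r.2.2.1 < i) && decide (sf6 (at' r.2.2.1) (at' r.2.1) = 1) &&
      decide (vec6 r.2.2.2 = at' r.2.2.1 + at' r.2.1)
  else
    decide (r.2.1 < i) && decide (vec6 r.2.2.2 = Matrix.mulVec (matOfL (applyL gRows)) (at' r.2.1))

theorem steps_ok : (List.range 63).all stepOK = true := by decide +kernel

theorem cert_covers : ∀ u : V6, u = 0 ∨ ∃ i : Fin 63, vec6 (certL.getD i.val (0, 0, 0, [])).2.2.2 = u := by
  decide +kernel

theorem tv_mem_range (i : ℕ) (hi : i < 63) :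
    H48.tv (vec6 (certL.getD i (0, 0, 0, [])).2.2.2) (1 : ZMod 2) ∈ repHom.range := by
  induction i using Nat.strong_induction_on with
  | _ i ih =>
    have h := List.all_eq_true.mp steps_ok i (List.mem_range.mpr hi)
    simp only [stepOK] at h
    split at h
    · simp only [Bool.and_eq_true, decide_eq_true_eq] at h
      exact ⟨⟨_, seedEl_mem h.1⟩, Subtype.ext ((repHom_eq _ _ (seedEl_list h.1)).trans h.2)⟩
    · split at h
      · simp only [Bool.and_eq_true, decide_eq_true_eq] at h
        obtain ⟨⟨⟨ha, hb⟩, hf⟩, he⟩ := h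
        have A := ih _ ha (by omega)
        have B := ih _ hb (by omega)
        have := repHom.range.mul_mem (repHom.range.mul_mem A B) (repHom.range.inv_mem A)
        rw [H48.tv_conj, H48.tv_smul, one_mul] at this
        rw [he]
        convert this using 3
        rw [show H48.sf (vec6 (certL.getD (certL.getD i (0, 0, 0, [])).2.2.1 (0, 0, 0, [])).2.2.2)
          (vec6 (certL.getD (certL.getD i (0, 0, 0, [])).2.1 (0, 0, 0, [])).2.2.2) = 1 from
            (H48.sf_apply _ _).trans hf, one_smul]
      · simp only [Bool.and_eq_true, decide_eq_true_eq] at h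
        have A := ih _ h.1 (by omega)
        have hg : repHom ⟨_, gMat_mem⟩ ∈ repHom.range := ⟨_, rfl⟩
        have := repHom.range.mul_mem (repHom.range.mul_mem hg A) (repHom.range.inv_mem hg)
        rw [H48.tv_conj, H48.spSmulDef, repHom_eq ⟨_, gMat_mem⟩ _ gMat.vecL_elt] at this
        rw [h.2]
        exact this

theorem repHom_surjective : Function.Surjective repHom := by
  rw [← MonoidHom.range_eq_top, eq_top_iff, ← H48.transGroup_eq_top, H48.transGroup,
    Subgroup.closure_le, H48.transSet_eq]
  rintro A ⟨w, c, rfl⟩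
  rcases (show ∀ c : ZMod 2, c = 0 ∨ c = 1 by decide) c with rfl | rfl
  · rw [H48.tv_zero]; exact repHom.range.one_mem
  · rcases cert_covers w with rfl | ⟨i, rfl⟩
    · rw [H48.tv_zero_left]; exact repHom.range.one_mem
    · exact tv_mem_range i.val i.isLt

end H95.Co2Cent
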