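import Cfsg.Agent.H95.Co2Cent.Kernel
import Cfsg.Agent.H69.Setting
import Cfsg.Agent.H48.Simple
import Cfsg.Agent.H90.SimpleCrit
import Cfsg.Agent.H1.Cores

/-!
The kernel is extraspecial of order `2⁹` and is the largest normal two-subgroup.
-/

set_option autoImplicit false

namespace H95.Co2Cent

open Cfsg Finset

/-- the index of the sign change -/
def tIdx : ℕ := compN16 % 4096

/-- the word moved by a permutation -/
def movedIdx (p n : ℕ) : ℕ := H90.permMask p (H90.encode n) % 4096

theorem perm_ok : fixOctL.all (fun p => permOK p && srcOK p && inCentL (permLW p) &&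
    decide (matOfL (permLW p) = 1) && H90.samePerm (H90.compN p p) H90.idN) = true := by
  decide +kernel

theorem sign_ok : discL.all (fun n => decide (n < 4096) && inCentL (signLW n) &&
    decide (matOfL (signLW n) = 1)) = true := by decide +kernel

theorem moved_ok : fixOctL.all (fun p => discL.all fun n =>
    H90.encode (movedIdx p n) == H90.permMask p (H90.encode n) && decide (movedIdx p n < 4096) &&
      (n ^^^ movedIdx p n == 0 || n ^^^ movedIdx p n == tIdx)) = true := by decide +kernel

theorem centre_ok : fixOctL.all (fun p => H90.samePerm p H90.idN ||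
    discL.any fun n => movedIdx p n != n) = true ∧
  discL.all (fun n => n == 0 || n == tIdx || fixOctL.any fun p => movedIdx p n != n) = true ∧
  (fixOctL.any fun p => discL.any fun n => movedIdx p n != n) = true ∧
  discL.contains 0 = true ∧ discL.contains tIdx = true ∧
  (fixOctL.any fun p => H90.samePerm p H90.idN) = true := by decide +kernel

theorem lists_distinct : (List.range 32).all (fun i => (List.range 32).all fun j =>
    i == j || discL.getD i 0 != discL.getD j 0) = true ∧
  (List.range 16).all (fun i => (List.range 16).all fun j =>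
    i == j || !H90.samePerm (fixOctL.getD i 0) (fixOctL.getD j 0)) = true ∧
  discL.length = 32 ∧ fixOctL.length = 16 := by decide +kernel

theorem signW_congr {n m : ℕ} (h : H90.encode n = H90.encode m) : signW n = signW m := by
  rw [signW, signW]
  exact congrArg signEl (Subtype.ext (show H90.wordOf (H90.encode n) = H90.wordOf (H90.encode m) by
    rw [h]))

theorem signW_mul (n m : ℕ) : signW n * signW m = signW (n ^^^ m) := by
  rw [signW, signW, signW, ← signEl_add]
  exact congrArg signEl (Subtype.ext
    (show H90.wordOf (H90.encode n) + H90.wordOf (H90.encode m) = H90.wordOf (H90.encode (n ^^^ m)) by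
      rw [H90.encode_xor, H90.wordOf_xor]))

theorem signW_zero : signW 0 = 1 := by
  rw [signW, ← signEl_zero]
  refine congrArg signEl (Subtype.ext ?_)
  show H90.wordOf (H90.encode 0) = 0
  rw [show H90.encode 0 = 0 from rfl, H90.wordOf_zero]

theorem signW_injective {n m : ℕ} (hn : n < 4096) (hm : m < 4096) (h : signW n = signW m) :
    n = m := by
  refine H90.encode_injOn hn hm (Nat.eq_of_testBit_eq fun j => ?_)
  by_cases hj : j < 24
  · have e := congrArg (fun g : Co0 => ((g • eight (H90.pt ⟨j, hj⟩) : leechLattice) : GolayPt → ℤ)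
      (H90.pt ⟨j, hj⟩)) h
    simp only [signW_coord, H90.idx_pt] at e
    have he : (eight (H90.pt ⟨j, hj⟩) : GolayPt → ℤ) (H90.pt ⟨j, hj⟩) = 8 := Pi.single_eq_same _ _
    rw [he] at e
    cases hA : (H90.encode n).testBit j <;> cases hB : (H90.encode m).testBit j <;>
      simp [hA, hB] at e ⊢
  · rw [Nat.testBit_lt_two_pow (lt_of_lt_of_le (H90.encode_lt hn)
      (Nat.pow_le_pow_right (by norm_num) (by omega))),
      Nat.testBit_lt_two_pow (lt_of_lt_of_le (H90.encode_lt hm)
      (Nat.pow_le_pow_right (by norm_num) (by omega)))]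

theorem perm_spec {p : ℕ} (hp : p ∈ fixOctL) :
    permOK p = true ∧ srcOK p = true ∧ inCentL (permLW p) = true ∧ matOfL (permLW p) = 1 ∧
      H90.samePerm (H90.compN p p) H90.idN = true := by
  have h := List.all_eq_true.mp perm_ok p hp
  simpa [and_assoc] using h

theorem sign_spec {n : ℕ} (hn : n ∈ discL) :
    n < 4096 ∧ inCentL (signLW n) = true ∧ matOfL (signLW n) = 1 := by
  have h := List.all_eq_true.mp sign_ok n hn
  simpa [and_assoc] using h

theorem moved_spec {p n : ℕ} (hp : p ∈ fixOctL) (hn : n ∈ discL) :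
    H90.encode (movedIdx p n) = H90.permMask p (H90.encode n) ∧ movedIdx p n < 4096 ∧
      (n ^^^ movedIdx p n = 0 ∨ n ^^^ movedIdx p n = tIdx) := by
  have h := List.all_eq_true.mp (List.all_eq_true.mp moved_ok p hp) n hn
  simpa [and_assoc] using h

theorem eq_one_of_samePerm {p : ℕ} (hp : permOK p = true)
    (h : H90.samePerm p H90.idN = true) : permN p = 1 :=
  Subtype.ext (Equiv.ext fun x => H90.idx_injective (Fin.ext (by
    rw [(permN_repr hp).apply, OneMemClass.coe_one, H90.repr_one.apply]
    exact Nat.eq_of_beq_eq_true (List.all_eq_true.mp h _ (List.mem_range.mpr (H90.idx x).isLt)))))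

theorem perm_sq {p : ℕ} (hp : p ∈ fixOctL) : permN p * permN p = 1 := by
  have h := perm_spec hp
  refine Subtype.ext (Equiv.ext fun x => H90.idx_injective (Fin.ext ?_))
  rw [Subgroup.coe_mul, ((permN_repr h.1).mul (permN_repr h.1)).apply, OneMemClass.coe_one,
    H90.repr_one.apply]
  exact Nat.eq_of_beq_eq_true (List.all_eq_true.mp h.2.2.2.2 _ (List.mem_range.mpr (H90.idx x).isLt))

theorem conj_signW {p n : ℕ} (hp : p ∈ fixOctL) (hn : n ∈ discL) :
    permHom (permN p) * signW n * (permHom (permN p))⁻¹ = signW (movedIdx p n) := by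
  rw [signW, signEl_conj, signW]
  refine congrArg signEl (Subtype.ext ?_)
  show (fun i => H90.wordOf (H90.encode n) ((permN p).1.symm i)) = H90.wordOf (H90.encode (movedIdx p n))
  refine Eq.trans ?_ (congrArg H90.wordOf (moved_spec hp hn).1.symm)
  apply H90.support₂_injective
  rw [H90.support₂_comp_symm, H90.support₂_wordOf, H90.support₂_wordOf,
    H90.setOf'_permMask (permN_repr (perm_spec hp).1)]

theorem signW_mem {n : ℕ} (hn : n ∈ discL) : signW n ∈ centGrp :=
  mem_of_inCentL _ (vecL_signW n) (sign_spec hn).2.1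

theorem permW_mem {p : ℕ} (hp : p ∈ fixOctL) : permHom (permN p) ∈ centGrp :=
  mem_of_inCentL _ (vecL_permN (perm_spec hp).1 (perm_spec hp).2.1) (perm_spec hp).2.2.1

/-- a kernel element -/
noncomputable def signK {n : ℕ} (hn : n ∈ discL) : repHom.ker :=
  ⟨⟨signW n, signW_mem hn⟩, MonoidHom.mem_ker.mpr (Subtype.ext
    ((repHom_eq ⟨_, signW_mem hn⟩ _ (vecL_signW n)).trans (sign_spec hn).2.2))⟩

/-- a kernel element -/
noncomputable def permK {p : ℕ} (hp : p ∈ fixOctL) : repHom.ker :=
  ⟨⟨permHom (permN p), permW_mem hp⟩, MonoidHom.mem_ker.mpr (Subtype.ext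
    ((repHom_eq ⟨_, permW_mem hp⟩ _ (vecL_permN (perm_spec hp).1 (perm_spec hp).2.1)).trans
      (perm_spec hp).2.2.2.1))⟩

theorem ker_ext {a b : repHom.ker} (h : a.1.1 = b.1.1) : a = b := Subtype.ext (Subtype.ext h)

theorem ker_form (x : repHom.ker) : ∃ (n : ℕ) (hn : n ∈ discL) (p : ℕ) (hp : p ∈ fixOctL),
    x = signK hn * permK hp := by
  obtain ⟨n, hn, p, hp, e⟩ := kernel_form (MonoidHom.mem_ker.mp x.2)
  exact ⟨n, hn, p, hp, ker_ext e⟩

theorem kerCard : Nat.card repHom.ker = 2 ^ 9 := by
  obtain ⟨hd, hp, hl, hl'⟩ := lists_distinct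
  have md : ∀ i : Fin 32, discL.getD i.val 0 ∈ discL := fun i => by
    rw [List.getD_eq_getElem _ _ (by omega)]; exact List.getElem_mem _
  have mp : ∀ i : Fin 16, fixOctL.getD i.val 0 ∈ fixOctL := fun i => by
    rw [List.getD_eq_getElem _ _ (by omega)]; exact List.getElem_mem _
  let f : Fin 32 × Fin 16 → repHom.ker := fun x => signK (md x.1) * permK (mp x.2)
  rw [← Nat.card_congr (Equiv.ofBijective f ⟨?_, ?_⟩), Nat.card_prod, Nat.card_fin, Nat.card_fin]
  · norm_num
  · rintro ⟨i, j⟩ ⟨i', j'⟩ h
    have e : signW (discL.getD i.val 0) * permHom (permN (fixOctL.getD j.val 0))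
        = signW (discL.getD i'.val 0) * permHom (permN (fixOctL.getD j'.val 0)) :=
      congrArg (fun x : repHom.ker => x.1.1) h
    have hperm : (permN (fixOctL.getD j.val 0)).1 = (permN (fixOctL.getD j'.val 0)).1 := by
      have m1 := (monMap_signEl ⟨_, H90.wordOf_encode_mem (discL.getD i.val 0)⟩).mul
        (monMap_permHom (permN (fixOctL.getD j.val 0)))
      have m2 := (monMap_signEl ⟨_, H90.wordOf_encode_mem (discL.getD i'.val 0)⟩).mul
        (monMap_permHom (permN (fixOctL.getD j'.val 0)))
      rw [one_mul] at m1 m2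
      rw [← signW] at m1 m2
      rw [e] at m1
      exact m1.unique m2
    have hj : j = j' := by
      have h1 := List.all_eq_true.mp (List.all_eq_true.mp hp j.val (List.mem_range.mpr j.isLt))
        j'.val (List.mem_range.mpr j'.isLt)
      simp only [Bool.or_eq_true, beq_iff_eq, Bool.not_eq_true'] at h1
      refine Fin.ext (h1.resolve_right fun hs => ?_)
      have : H90.samePerm (fixOctL.getD j.val 0) (fixOctL.getD j'.val 0) = true := by
        refine List.all_eq_true.mpr fun k hk => ?_
        have hk' := List.mem_range.mp hk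
        have a := (permN_repr (perm_spec (mp j)).1).apply (H90.pt ⟨k, hk'⟩)
        have b := (permN_repr (perm_spec (mp j')).1).apply (H90.pt ⟨k, hk'⟩)
        rw [hperm, b, H90.idx_pt] at a
        rw [Nat.beq_eq]
        exact a.symm
      rw [hs] at this
      exact absurd this (by simp)
    subst hj
    have hi := signW_injective (sign_spec (md i)).1 (sign_spec (md i')).1 (mul_right_cancel e)
    have h1 := List.all_eq_true.mp (List.all_eq_true.mp hd i.val (List.mem_range.mpr i.isLt))
      i'.val (List.mem_range.mpr i'.isLt)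
    simp only [Bool.or_eq_true, beq_iff_eq, bne_iff_ne] at h1
    rw [Fin.ext (h1.resolve_right fun hne => hne hi)]
  · intro x
    obtain ⟨n, hn, p, hp', rfl⟩ := ker_form x
    obtain ⟨i, hi, rfl⟩ := List.getElem_of_mem hn
    obtain ⟨j, hj, rfl⟩ := List.getElem_of_mem hp'
    refine ⟨(⟨i, by omega⟩, ⟨j, by omega⟩), ker_ext ?_⟩
    show signW (discL.getD i 0) * permHom (permN (fixOctL.getD j 0)) = _
    rw [List.getD_eq_getElem _ _ hi, List.getD_eq_getElem _ _ hj]
    rfl

theorem tIdx_mem : tIdx ∈ discL := List.contains_iff_mem.mp centre_ok.2.2.2.2.1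

theorem ker_extraspecial : IsExtraspecial 2 repHom.ker := by
  have : Finite Co0 := co0_finite
  obtain ⟨c1, c2, c3, c4, c5, c6⟩ := centre_ok
  set c := signK tIdx_mem with hc
  have hp2 : IsPGroup 2 repHom.ker := IsPGroup.of_card kerCard
  have hsq : ∀ x : repHom.ker, x * x = 1 ∨ x * x = c := by
    intro x
    obtain ⟨n, hn, p, hp, rfl⟩ := ker_form x
    have key : (signW n * permHom (permN p)) * (signW n * permHom (permN p))
        = signW (n ^^^ movedIdx p n) := by
      calc (signW n * permHom (permN p)) * (signW n * permHom (permN p))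
          = signW n * (permHom (permN p) * signW n * (permHom (permN p))⁻¹) *
            (permHom (permN p) * permHom (permN p)) := by group
        _ = _ := by rw [conj_signW hp hn, ← map_mul, perm_sq hp, map_one, mul_one, signW_mul]
    rcases (moved_spec hp hn).2.2 with e | e
    · exact Or.inl (ker_ext (by rw [e, signW_zero] at key; exact key))
    · exact Or.inr (ker_ext (by rw [e] at key; exact key))
  have hccent : ∀ x : repHom.ker, c * x = x * c := fun x => ker_ext (by
    show tEl * x.1.1 = x.1.1 * tEl
    exact (mem_centGrp.mp x.1.2).1.symm)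
  have hcc : c * c = 1 := ker_ext (by
    show signW tIdx * signW tIdx = 1
    rw [signW_mul, Nat.xor_self, signW_zero])
  have hcm : ∀ x y : repHom.ker, x * y = y * x ∨ x * y = c * (y * x) := by
    have hinv : ∀ x : repHom.ker, ∃ e, (e = 1 ∨ e = c) ∧ x⁻¹ = e * x := fun x => by
      rcases hsq x with h | h
      · exact ⟨1, Or.inl rfl, by rw [one_mul, inv_eq_of_mul_eq_one_right h]⟩
      · refine ⟨c, Or.inr rfl, inv_eq_of_mul_eq_one_right ?_⟩
        rw [← mul_assoc, ← hccent, mul_assoc, h, hcc]
    intro x y
    obtain ⟨a, ha, ea⟩ := hinv x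
    obtain ⟨b, hb, eb⟩ := hinv y
    obtain ⟨d, hd, ed⟩ := hinv (y * x)
    have he : d * (y * x) = a * b * (x * y) := by
      calc d * (y * x) = (y * x)⁻¹ := ed.symm
        _ = x⁻¹ * y⁻¹ := mul_inv_rev _ _
        _ = a * x * (b * y) := by rw [ea, eb]
        _ = a * b * (x * y) := by
          rcases hb with rfl | rfl
          · simp [mul_assoc]
          · rw [mul_assoc a x, ← mul_assoc x c, ← hccent x]; simp [mul_assoc]
    have hclosed : ∀ u v : repHom.ker, (u = 1 ∨ u = c) → (v = 1 ∨ v = c) → (u * v = 1 ∨ u * v = c) := by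
      rintro u v (rfl | rfl) (rfl | rfl) <;> simp [hcc]
    have hab : (a * b)⁻¹ = a * b := by
      rcases hclosed a b ha hb with e | e <;> rw [e]
      · simp
      · exact inv_eq_of_mul_eq_one_right hcc
    have he' : x * y = a * b * d * (y * x) := by
      have h2 : (a * b) * (a * b) = 1 := by
        conv_lhs => arg 1; rw [← hab]
        exact inv_mul_cancel _
      rw [mul_assoc (a * b) d, he, ← mul_assoc (a * b) (a * b), h2, one_mul]
    rcases hclosed _ _ (hclosed a b ha hb) hd with e | e
    · left; rw [he', e, one_mul]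
    · right; rw [he', e]
  obtain ⟨p0, hp0, hid⟩ := List.any_eq_true.mp c6
  refine H69.isExtraspecial_two_of c hp2 hsq hcm ?_ ?_
  · obtain ⟨p, hp, h⟩ := List.any_eq_true.mp c3
    obtain ⟨n, hn, hne⟩ := List.any_eq_true.mp h
    refine ⟨permK hp, signK hn, fun e => ?_⟩
    have e' : permHom (permN p) * signW n = signW n * permHom (permN p) :=
      congrArg (fun x : repHom.ker => x.1.1) e
    have h2 := conj_signW hp hn
    rw [e', mul_inv_cancel_right] at h2
    exact bne_iff_ne.mp hne
      (signW_injective (moved_spec hp hn).2.1 (sign_spec hn).1 h2.symm)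
  · intro x hx
    obtain ⟨n, hn, p, hp, rfl⟩ := ker_form x
    have hfix : ∀ m (hm : m ∈ discL), movedIdx p m = m := by
      intro m hm
      have e : signW m * (signW n * permHom (permN p)) = signW n * permHom (permN p) * signW m :=
        congrArg (fun x : repHom.ker => x.1.1) (hx (signK hm))
      have h2 := conj_signW hp hm
      have : signW m = signW (movedIdx p m) := by
        rw [← h2]
        have h3 : signW n * (permHom (permN p) * signW m * (permHom (permN p))⁻¹)
            = signW m * signW n := by
          calc _ = signW n * permHom (permN p) * signW m * (permHom (permN p))⁻¹ := by group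
            _ = signW m * signW n := by rw [← e]; group
        rw [signW_mul m n, Nat.xor_comm, ← signW_mul] at h3
        exact (mul_left_cancel h3).symm
      exact (signW_injective (sign_spec hm).1 (moved_spec hp hm).2.1 this).symm
    have hp1 : permN p = 1 := by
      refine eq_one_of_samePerm (perm_spec hp).1 ?_
      have h := List.all_eq_true.mp c1 p hp
      simp only [Bool.or_eq_true, List.any_eq_true, bne_iff_ne] at h
      exact h.resolve_right fun ⟨m, hm, hne⟩ => hne (hfix m hm)
    have hn1 : ∀ q (hq : q ∈ fixOctL), movedIdx q n = n := by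
      intro q hq
      have e : permHom (permN q) * (signW n * permHom (permN p))
          = signW n * permHom (permN p) * permHom (permN q) :=
        congrArg (fun x : repHom.ker => x.1.1) (hx (permK hq))
      rw [hp1, map_one, mul_one] at e
      have h2 := conj_signW hq hn
      rw [e, mul_inv_cancel_right] at h2
      exact (signW_injective (sign_spec hn).1 (moved_spec hq hn).2.1 h2).symm
    have h := List.all_eq_true.mp c2 n hn
    simp only [Bool.or_eq_true, beq_iff_eq, List.any_eq_true, bne_iff_ne] at h
    rcases h with (h | h) | ⟨q, hq, hne⟩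
    · exact Or.inl (ker_ext (by
        show signW n * permHom (permN p) = 1
        rw [h, hp1, map_one, mul_one, signW_zero]))
    · exact Or.inr (ker_ext (by
        show signW n * permHom (permN p) = signW tIdx
        rw [h, hp1, map_one, mul_one]))
    · exact absurd (hn1 q hq) hne

theorem three_element :
    (H48.transMat (Pi.single (Sum.inl 0) 1 : V6) (1 : ZMod 2)
      * H48.transMat (Pi.single (Sum.inr 0) 1 : V6) 1) ^ 3 = 1 ∧
    H48.transMat (Pi.single (Sum.inl 0) 1 : V6) (1 : ZMod 2)
      * H48.transMat (Pi.single (Sum.inr 0) 1 : V6) 1 ≠ 1 := by decide +kernel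

theorem sp_pCore : pCore 2 (Matrix.symplecticGroup (Fin 3) (ZMod 2)) = ⊥ := by
  have hbot : Subgroup.center (Matrix.symplecticGroup (Fin 3) (ZMod 2)) = ⊥ := by
    refine (Subgroup.eq_bot_iff_forall _).mpr fun g hg => ?_
    obtain ⟨a, ha, hv⟩ := (H48.mem_center_iff g).mp hg
    have h1 : a = 1 := (show ∀ b : ZMod 2, b * b = 1 → b = 1 by decide) a ha
    exact H48.sp_ext fun v => by rw [hv, h1, one_smul, one_smul]
  haveI := H48.isSimpleGroup_psp (l := Fin 3) (F := ZMod 2) (Or.inl (by simp))
  haveI := H90.isSimpleGroup_of_mulEquiv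
    ((QuotientGroup.quotientMulEquivOfEq hbot).trans
      (QuotientGroup.quotientBot (G := Matrix.symplecticGroup (Fin 3) (ZMod 2))))
  rcases (H1.pCore_normal' 2 (Matrix.symplecticGroup (Fin 3) (ZMod 2))).eq_bot_or_eq_top with h | h
  · exact h
  · exfalso
    set u : V6 := Pi.single (Sum.inl 0) 1
    set w : V6 := Pi.single (Sum.inr 0) 1
    set A : Matrix.symplecticGroup (Fin 3) (ZMod 2) := H48.tv u 1 * H48.tv w 1
    have h3 := three_element
    have hA : A ^ 3 = 1 := Subtype.ext h3.1
    obtain ⟨k, hk⟩ := (IsPGroup.iff_orderOf.mp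
      (H1.isPGroup_pCore 2 (Matrix.symplecticGroup (Fin 3) (ZMod 2))))
      ⟨A, h ▸ Subgroup.mem_top A⟩
    have hd : 2 ^ k ∣ 3 := by
      rw [← hk, Subgroup.orderOf_mk]
      exact orderOf_dvd_of_pow_eq_one hA
    have h1 : 2 ^ k = 1 := by
      rcases (Nat.dvd_prime Nat.prime_three).mp hd with e | e
      · exact e
      · exfalso
        rcases k with _ | k
        · simp at e
        · rw [pow_succ] at e; omega
    rw [h1, Subgroup.orderOf_mk, orderOf_eq_one_iff] at hk
    exact h3.2 (congrArg Subtype.val hk)

theorem pCore_centGrp : pCore 2 centGrp = repHom.ker := by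
  refine le_antisymm (fun x hx => ?_) ?_
  · have := H1.map_pCore_le_of_surjective 2 repHom repHom_surjective ⟨x, hx, rfl⟩
    rw [sp_pCore, Subgroup.mem_bot] at this
    exact this
  · exact H1.le_pCore (IsPGroup.of_card kerCard)

end H95.Co2Cent
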