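import Cfsg.Agent.H95.MatElt

/-! Constants for the centraliser of an involution in the stabiliser of a minimal vector. -/

set_option autoImplicit false

namespace H95.Co2Cent

open Cfsg Finset

/-- the octad -/
def octN : ℕ := 8391797

/-- its complement -/
def compN16 : ℕ := 8385418

/-- the matrix -/
def gRows : List (List ℤ) :=
  [[4, 0, 4, 0, -4, 0, 0, 0, 0, 0, 0, 0, 0, 0, 0, 0, 0, 0, 0, 0, 0, 0, 0, 4],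
   [0, 4, 0, 0, 0, 0, 0, 0, 0, 0, 0, 0, 0, -4, 0, 0, -4, 0, 0, 0, 0, 0, -4, 0],
   [-4, 0, 4, 0, 4, 0, 0, 0, 0, 0, 0, 0, 0, 0, 0, 0, 0, 0, 0, 0, 0, 0, 0, 4],
   [0, 0, 0, 0, 0, 0, 0, -4, 0, 0, 0, 0, 0, 0, 0, 0, 0, -4, -4, 0, 4, 0, 0, 0],
   [0, 0, 0, 0, 0, 4, -4, 0, 0, 0, -4, -4, 0, 0, 0, 0, 0, 0, 0, 0, 0, 0, 0, 0],
   [0, 0, 0, 0, 0, -4, 4, 0, 0, 0, -4, -4, 0, 0, 0, 0, 0, 0, 0, 0, 0, 0, 0, 0],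
   [0, 0, 0, 0, 0, -4, -4, 0, 0, 0, -4, 4, 0, 0, 0, 0, 0, 0, 0, 0, 0, 0, 0, 0],
   [0, 0, 0, 0, 0, 0, 0, -4, 0, 0, 0, 0, 0, 0, 0, 0, 0, 4, -4, 0, -4, 0, 0, 0],
   [0, -4, 0, 0, 0, 0, 0, 0, 0, 0, 0, 0, 0, -4, 0, 0, -4, 0, 0, 0, 0, 0, 4, 0],
   [0, 0, 0, 4, 0, 0, 0, 0, -4, -4, 0, 0, 0, 0, 0, 0, 0, 0, 0, 0, 0, -4, 0, 0],
   [0, 0, 0, 0, 0, -4, -4, 0, 0, 0, 4, -4, 0, 0, 0, 0, 0, 0, 0, 0, 0, 0, 0, 0],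
   [4, 0, 4, 0, 4, 0, 0, 0, 0, 0, 0, 0, 0, 0, 0, 0, 0, 0, 0, 0, 0, 0, 0, -4],
   [0, -4, 0, 0, 0, 0, 0, 0, 0, 0, 0, 0, 0, 4, 0, 0, -4, 0, 0, 0, 0, 0, -4, 0],
   [0, 0, 0, 0, 0, 0, 0, -4, 0, 0, 0, 0, 0, 0, 0, 0, 0, -4, 4, 0, -4, 0, 0, 0],
   [0, 0, 0, 0, 0, 0, 0, 0, 0, 0, 0, 0, -4, 0, 4, -4, 0, 0, 0, -4, 0, 0, 0, 0],
   [0, 0, 0, 0, 0, 0, 0, 4, 0, 0, 0, 0, 0, 0, 0, 0, 0, -4, -4, 0, -4, 0, 0, 0],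
   [0, 0, 0, -4, 0, 0, 0, 0, -4, 4, 0, 0, 0, 0, 0, 0, 0, 0, 0, 0, 0, -4, 0, 0],
   [0, 0, 0, -4, 0, 0, 0, 0, 4, -4, 0, 0, 0, 0, 0, 0, 0, 0, 0, 0, 0, -4, 0, 0],
   [0, -4, 0, 0, 0, 0, 0, 0, 0, 0, 0, 0, 0, -4, 0, 0, 4, 0, 0, 0, 0, 0, -4, 0],
   [0, 0, 0, -4, 0, 0, 0, 0, -4, -4, 0, 0, 0, 0, 0, 0, 0, 0, 0, 0, 0, 4, 0, 0],
   [0, 0, 0, 0, 0, 0, 0, 0, 0, 0, 0, 0, 4, 0, -4, -4, 0, 0, 0, -4, 0, 0, 0, 0],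
   [0, 0, 0, 0, 0, 0, 0, 0, 0, 0, 0, 0, -4, 0, -4, 4, 0, 0, 0, -4, 0, 0, 0, 0],
   [0, 0, 0, 0, 0, 0, 0, 0, 0, 0, 0, 0, -4, 0, -4, -4, 0, 0, 0, 4, 0, 0, 0, 0],
   [4, 0, -4, 0, 4, 0, 0, 0, 0, 0, 0, 0, 0, 0, 0, 0, 0, 0, 0, 0, 0, 0, 0, 4]]

theorem gRows_gens : matOK gRows = true := by decide +kernel

theorem gRows_orth : ∀ a b : GolayPt, ∑ p, entryL gRows p a * entryL gRows p b =
    if a = b then 64 else 0 := by decide +kernel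

/-- the element preserving the octad part -/
def gMat : MatData := ⟨gRows, gRows_gens, gRows_orth⟩

/-- a symplectic basis -/
def basisL : List (List ℤ) :=
  [[-4, 0, 0, 0, 0, 0, 0, 0, 0, 0, 0, 0, 0, 0, 0, 0, 0, 0, 0, 0, 0, 0, 0, 4],
   [0, 0, 4, 0, 4, 0, 0, 0, 0, 0, 0, 0, 0, 0, 0, 0, 0, 0, 0, 0, 0, 0, 0, 0],
   [0, 0, 0, 0, 0, 0, 4, 0, 0, 0, -4, 0, 0, 0, 0, 0, 0, 0, 0, 0, 0, 0, 0, 0],
   [-2, 0, -2, 0, 2, 2, 2, 0, 0, 0, 2, 2, 0, 0, 0, 0, 0, 0, 0, 0, 0, 0, 0, 2],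
   [0, 0, 4, 0, 0, 4, 0, 0, 0, 0, 0, 0, 0, 0, 0, 0, 0, 0, 0, 0, 0, 0, 0, 0],
   [0, 0, 0, 0, 0, 0, 4, 0, 0, 0, 0, -4, 0, 0, 0, 0, 0, 0, 0, 0, 0, 0, 0, 0]]

/-- permutation, word and root of the seven seeds -/
def seedL : List (ℕ × ℕ × List ℤ) :=
  [(984818244535754528103549039458486304, 3188,
    [-4, 0, 0, 0, 0, 0, 0, 0, 0, 0, 0, 0, 0, 0, 0, 0, 0, 0, 0, 0, 0, 0, 0, 4]),
   (28946034224076574004482974933061687, 3188,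
    [0, 0, 4, 0, -4, 0, 0, 0, 0, 0, 0, 0, 0, 0, 0, 0, 0, 0, 0, 0, 0, 0, 0, 0]),
   (22850249688695149930605711816296503, 3188,
    [0, 0, 0, 0, 4, -4, 0, 0, 0, 0, 0, 0, 0, 0, 0, 0, 0, 0, 0, 0, 0, 0, 0, 0]),
   (29151034614893663836938031157839927, 3188,
    [0, 0, 0, 0, 0, 4, -4, 0, 0, 0, 0, 0, 0, 0, 0, 0, 0, 0, 0, 0, 0, 0, 0, 0]),
   (21159163873795149579542675899648055, 3188,
    [0, 0, 0, 0, 0, 0, 4, 0, 0, 0, -4, 0, 0, 0, 0, 0, 0, 0, 0, 0, 0, 0, 0, 0]),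
   (29352039325869664845734877654878263, 3188,
    [0, 0, 0, 0, 0, 0, 0, 0, 0, 0, 4, -4, 0, 0, 0, 0, 0, 0, 0, 0, 0, 0, 0, 0]),
   (29352039325869664845734877654878263, 116,
    [0, 0, 0, 0, 0, 0, 0, 0, 0, 0, 4, 4, 0, 0, 0, 0, 0, 0, 0, 0, 0, 0, 0, 0])]

/-- how the 63 centres are reached -/
def certL : List (ℕ × ℕ × ℕ × List ℕ) :=
  [(0, 0, 0, [1, 0, 0, 0, 0, 0]),
   (0, 1, 0, [1, 1, 0, 0, 0, 0]),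
   (0, 2, 0, [0, 1, 0, 0, 1, 0]),
   (0, 3, 0, [0, 1, 1, 0, 0, 1]),
   (0, 4, 0, [0, 0, 1, 0, 0, 0]),
   (0, 5, 0, [0, 0, 1, 0, 0, 1]),
   (0, 6, 0, [1, 0, 1, 0, 0, 1]),
   (1, 1, 2, [1, 0, 0, 0, 1, 0]),
   (1, 2, 3, [0, 0, 1, 0, 1, 1]),
   (1, 3, 4, [0, 1, 0, 0, 0, 1]),
   (1, 3, 7, [1, 1, 1, 0, 1, 1]),
   (1, 4, 5, [0, 0, 0, 0, 0, 1]),
   (1, 4, 6, [1, 0, 0, 0, 0, 1]),
   (1, 4, 8, [0, 0, 0, 0, 1, 1]),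
   (1, 4, 10, [1, 1, 0, 0, 1, 1]),
   (1, 5, 9, [0, 1, 1, 0, 0, 0]),
   (1, 5, 12, [1, 0, 1, 0, 0, 0]),
   (1, 5, 13, [0, 0, 1, 0, 1, 0]),
   (1, 5, 14, [1, 1, 1, 0, 1, 0]),
   (1, 6, 9, [1, 1, 1, 0, 0, 0]),
   (1, 6, 13, [1, 0, 1, 0, 1, 0]),
   (1, 6, 14, [0, 1, 1, 0, 1, 0]),
   (1, 6, 15, [1, 1, 0, 0, 0, 1]),
   (1, 6, 17, [1, 0, 0, 0, 1, 1]),
   (1, 6, 18, [0, 1, 0, 0, 1, 1]),
   (1, 4, 22, [1, 1, 1, 0, 0, 1]),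
   (1, 4, 23, [1, 0, 1, 0, 1, 1]),
   (1, 4, 24, [0, 1, 1, 0, 1, 1]),
   (1, 8, 25, [1, 1, 0, 0, 1, 0]),
   (1, 8, 27, [0, 1, 0, 0, 0, 0]),
   (1, 9, 24, [0, 0, 0, 0, 1, 0]),
   (2, 2, 0, [1, 1, 0, 1, 0, 0]),
   (1, 0, 31, [0, 1, 0, 1, 0, 0]),
   (1, 1, 31, [0, 0, 0, 1, 0, 0]),
   (1, 1, 32, [1, 0, 0, 1, 0, 0]),
   (1, 2, 31, [1, 0, 0, 1, 1, 0]),
   (1, 2, 32, [0, 0, 0, 1, 1, 0]),
   (1, 3, 35, [1, 1, 1, 1, 1, 1]),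
   (1, 3, 36, [0, 1, 1, 1, 1, 1]),
   (1, 4, 37, [1, 1, 0, 1, 1, 1]),
   (1, 4, 38, [0, 1, 0, 1, 1, 1]),
   (1, 5, 39, [1, 1, 1, 1, 1, 0]),
   (1, 5, 40, [0, 1, 1, 1, 1, 0]),
   (1, 6, 31, [0, 1, 1, 1, 0, 1]),
   (1, 6, 32, [1, 1, 1, 1, 0, 1]),
   (1, 6, 33, [1, 0, 1, 1, 0, 1]),
   (1, 6, 34, [0, 0, 1, 1, 0, 1]),
   (1, 6, 35, [0, 0, 1, 1, 1, 1]),
   (1, 6, 36, [1, 0, 1, 1, 1, 1]),
   (1, 6, 37, [0, 1, 0, 1, 1, 0]),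
   (1, 6, 38, [1, 1, 0, 1, 1, 0]),
   (1, 9, 43, [0, 0, 1, 1, 0, 0]),
   (1, 9, 44, [1, 0, 1, 1, 0, 0]),
   (1, 9, 45, [1, 1, 1, 1, 0, 0]),
   (1, 9, 46, [0, 1, 1, 1, 0, 0]),
   (1, 9, 49, [0, 0, 0, 1, 1, 1]),
   (1, 9, 50, [1, 0, 0, 1, 1, 1]),
   (1, 11, 47, [0, 0, 1, 1, 1, 0]),
   (1, 11, 48, [1, 0, 1, 1, 1, 0]),
   (1, 12, 31, [0, 1, 0, 1, 0, 1]),
   (1, 12, 32, [1, 1, 0, 1, 0, 1]),
   (1, 12, 33, [1, 0, 0, 1, 0, 1]),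
   (1, 12, 34, [0, 0, 0, 1, 0, 1])]

/-- the permutations fixing the octad pointwise -/
def fixOctL : List ℕ :=
  [984818244535754528103549039458486304,
   967739223789245171407146504132003936,
   978241746458226444833005867658250464,
   983553042649537266979977019204733184,
   959823939071994704882402347086186784,
   974394222122509349096603230276913536,
   976539006901119804582877792120867232,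
   971700361611140356443901154824849856,
   980747918883362939279568022996060640,
   972388651884523380316328689283009024,
   965094429999691373696704173595626016,
   981940260449521198767676458684353088,
   975141542956546445243913353447475808,
   979236149903553240597937305795791488,
   965823287528192349793434105431984800,
   957028651706772161000819827381930688]

/-- a move of the five base points into the octad -/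
def moveN : ℕ := 710599905961794619364580939228451970

/-- its inverse -/
def moveInvN : ℕ := 313510887062743431182846818657173676

/-- the code words disjoint from the octad -/
def discL : List ℕ :=
  [0, 2, 8, 10, 128, 130, 136, 138, 256, 258, 264, 266, 384, 386, 392, 394, 512, 514, 520, 522, 640, 642, 648, 650, 768, 770, 776, 778, 896, 898, 904, 906]

end H95.Co2Cent
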