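import Cfsg.Agent.H95.Co2Cent.Rep
import Cfsg.Agent.H90.Group
import Cfsg.Agent.H90.CentralizerCore

/-!
The kernel: signs on the complement of the octad times permutations fixing the octad pointwise.
-/

set_option autoImplicit false

namespace H95.Co2Cent

open Cfsg Finset

/-- the octad pointwise -/
def octPts : List GolayPt :=
  [none, some 0, some 2, some 4, some 5, some 6, some 10, some 11]

/-- roots joining the octad part -/
def rootL : List (List ℤ) :=
  [List.ofFn (fun i : Fin 24 => if i.val = 23 then (4 : ℤ) else if i.val = 0 then -4 else 0),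
   List.ofFn (fun i : Fin 24 => if i.val = 2 then (4 : ℤ) else if i.val = 4 then -4 else 0),
   List.ofFn (fun i : Fin 24 => if i.val = 4 then (4 : ℤ) else if i.val = 5 then -4 else 0),
   List.ofFn (fun i : Fin 24 => if i.val = 5 then (4 : ℤ) else if i.val = 6 then -4 else 0),
   List.ofFn (fun i : Fin 24 => if i.val = 6 then (4 : ℤ) else if i.val = 10 then -4 else 0),
   List.ofFn (fun i : Fin 24 => if i.val = 10 then (4 : ℤ) else if i.val = 11 then -4 else 0),
   List.ofFn (fun i : Fin 24 => if i.val = 10 then (4 : ℤ) else if i.val = 11 then 4 else 0),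
   [-2, 0, -2, 0, 2, 2, 2, 0, 0, 0, 2, 2, 0, 0, 0, 0, 0, 0, 0, 0, 0, 0, 0, 2]]

theorem root_check : ∀ i : Fin 8, H96.Check.checkB (ofL (rootL.getD i.val [])) = true := by
  decide +kernel

/-- a root -/
def rootV (i : Fin 8) : leechLattice :=
  ⟨ofL (rootL.getD i.val []), H96.Check.checkB_spec (root_check i)⟩

theorem rootV_mem (i : Fin 8) : rootV i ∈ fixPart := by
  have h : ∀ i : Fin 8, ∀ p, onOct p = false → ofL (rootL.getD i.val []) p = 0 := by decide +kernel
  exact h i

theorem rootV_perp (i : Fin 8) : ldot (rootV i) Spor.leechU = 0 := by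
  have h : ∀ i : Fin 8, dotInt (ofL (rootL.getD i.val [])) Spor.vecU = 0 := by decide +kernel
  exact h i

theorem rootV_norm (i : Fin 8) : ldot (rootV i) (rootV i) = 32 := by
  have h : ∀ i : Fin 8, dotInt (ofL (rootL.getD i.val [])) (ofL (rootL.getD i.val [])) = 32 := by
    decide +kernel
  exact h i

theorem leechU_norm : ldot Spor.leechU Spor.leechU = 32 := by
  show dotInt Spor.vecU Spor.vecU = 32
  decide +kernel

theorem root_edges : ∀ e ∈ ([(7, 0), (7, 1), (1, 2), (2, 3), (3, 4), (4, 5), (4, 6)] :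
    List (Fin 8 × Fin 8)), dotInt (ofL (rootL.getD e.1.val [])) (ofL (rootL.getD e.2.val [])) ≠ 0 := by
  decide +kernel

/-- a kernel element moves every root at most to its opposite -/
theorem root_image {h : centGrp} (hh : repHom h = 1) {r : fixPart}
    (hp : ldot r.1 Spor.leechU = 0) (hn : ldot r.1 r.1 = 32) :
    h.1 • r.1 = r.1 ∨ h.1 • r.1 = -r.1 := by
  set z := act h r - r with hz
  have hM : repMat h = 1 := congrArg Subtype.val hh
  have hpsi : psi z = 0 := by
    rw [hz, map_sub, psi_act h hp, hM, Matrix.one_mulVec, sub_self]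
  have hzv : z.1 = h.1 • r.1 - r.1 := rfl
  have hzp : ldot z.1 Spor.leechU = 0 := by
    let φ : leechLattice →+ ℤ := AddMonoidHom.mk' (fun y => ldot y Spor.leechU)
      fun a b => leechLike.add_left _ _ _
    show φ z.1 = 0
    rw [hzv, map_sub, show φ (h.1 • r.1) = 0 from act_perp h hp, show φ r.1 = 0 from hp, sub_zero]
  obtain ⟨n, w, e⟩ := psi_eq_zero hzp hpsi
  have e' : z.1 = n • Spor.leechU + (2 • w.1) := by rw [e]; rfl
  set a := ldot w.1 Spor.leechU with ha
  set b := ldot r.1 w.1 with hb
  set q := ldot w.1 w.1 with hq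
  have s1 : ∀ x : leechLattice, ldot z.1 x = n * ldot Spor.leechU x + 2 * ldot w.1 x := fun x => by
    let φ : leechLattice →+ ℤ := AddMonoidHom.mk' (fun y => ldot y x)
      fun a b => leechLike.add_left _ _ _
    show φ z.1 = n * φ Spor.leechU + 2 * φ w.1
    rw [e', map_add, map_zsmul, map_nsmul]
    simp [smul_eq_mul]
  have hUr : ldot Spor.leechU r.1 = 0 := by rw [ldot_comm, hp]
  have e1 := s1 Spor.leechU
  rw [hzp, leechU_norm] at e1
  have e2 := s1 r.1
  rw [hUr, ldot_comm w.1 r.1, ← hb] at e2
  have e3 := s1 z.1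
  rw [ldot_comm Spor.leechU z.1, s1 Spor.leechU, leechU_norm, ← ha, ldot_comm w.1 z.1, s1 w.1,
    ldot_comm Spor.leechU w.1, ← ha, ← hq] at e3
  have hnorm : ldot (z.1 + r.1) (z.1 + r.1) = 32 := by
    rw [hzv, sub_add_cancel, co0_dot, hn]
  rw [leechLike.norm_add, hn] at hnorm
  obtain ⟨a', ha'⟩ := dvd16 w.2 leechU_mem
  obtain ⟨b', hb'⟩ := dvd16 r.2 w.2
  obtain ⟨q', hq'⟩ := dvd16 w.2 w.2
  rw [← ha] at ha'
  rw [← hb] at hb'
  rw [← hq] at hq'
  have hn2 : ∃ k, n = 2 * k := by
    have hsq : n * n = 2 * b' + 2 * q' := by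
      have han : a = -16 * n := by linarith
      rw [e2, e3, han, hq', hb'] at hnorm
      linarith
    rcases Int.even_or_odd n with ⟨k, hk⟩ | ⟨k, hk⟩
    · exact ⟨k, by omega⟩
    · exfalso
      rw [hk] at hsq
      ring_nf at hsq
      omega
  obtain ⟨k, hk⟩ := hn2
  have ht : z.1 ∈ twice leechLattice := by
    refine mem_twice.mpr ⟨k • Spor.leechU + w.1, ?_⟩
    rw [e', hk, two_nsmul, two_nsmul, mul_comm, mul_zsmul, two_zsmul]
    simp only [smul_add]
    abel
  rcases leechLike.norm_twice ht with h0 | h128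
  · left
    rw [hzv, sub_eq_zero] at h0
    exact h0
  · right
    have hs : ldot (h.1 • r.1 + r.1) (h.1 • r.1 + r.1) + ldot z.1 z.1 = 128 := by
      rw [hzv, leechLike.norm_add, leechLike.norm_sub, co0_dot, hn]
      ring
    have h0 : h.1 • r.1 + r.1 = 0 := by
      by_contra hne
      have := leechLike.min32 _ hne
      linarith
    exact eq_neg_of_add_eq_zero_left h0

theorem sign_link {h : Co0} {r s : leechLattice} (hne : ldot r s ≠ 0) (hr : h • r = r)
    (hs : h • s = s ∨ h • s = -s) : h • s = s := by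
  refine hs.resolve_right fun e => ?_
  have := co0_dot h r s
  rw [hr, e, leechLike.neg_right] at this
  omega

theorem sign_link_neg {h : Co0} {r s : leechLattice} (hne : ldot r s ≠ 0) (hr : h • r = -r)
    (hs : h • s = s ∨ h • s = -s) : h • s = -s := by
  refine hs.resolve_left fun e => ?_
  have := co0_dot h r s
  rw [hr, e, leechLike.neg_left] at this
  omega

/-- one sign for all the roots -/
theorem roots_signed {h : centGrp} (hh : repHom h = 1) :
    (∀ i, h.1 • rootV i = rootV i) ∨ ∀ i, h.1 • rootV i = -rootV i := by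
  have hall : ∀ i, h.1 • rootV i = rootV i ∨ h.1 • rootV i = -rootV i := fun i =>
    root_image hh (r := ⟨rootV i, rootV_mem i⟩) (rootV_perp i) (rootV_norm i)
  have ed : ∀ e ∈ ([(7, 0), (7, 1), (1, 2), (2, 3), (3, 4), (4, 5), (4, 6)] :
      List (Fin 8 × Fin 8)), ldot (rootV e.1) (rootV e.2) ≠ 0 := fun e he => root_edges e he
  rcases hall 7 with h7 | h7
  · left
    have h1 := sign_link (ed (7, 1) (by simp)) h7 (hall 1)
    have h2 := sign_link (ed (1, 2) (by simp)) h1 (hall 2)
    have h3 := sign_link (ed (2, 3) (by simp)) h2 (hall 3)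
    have h4 := sign_link (ed (3, 4) (by simp)) h3 (hall 4)
    intro i
    fin_cases i
    exacts [sign_link (ed (7, 0) (by simp)) h7 (hall 0), h1, h2, h3, h4,
      sign_link (ed (4, 5) (by simp)) h4 (hall 5), sign_link (ed (4, 6) (by simp)) h4 (hall 6), h7]
  · right
    have h1 := sign_link_neg (ed (7, 1) (by simp)) h7 (hall 1)
    have h2 := sign_link_neg (ed (1, 2) (by simp)) h1 (hall 2)
    have h3 := sign_link_neg (ed (2, 3) (by simp)) h2 (hall 3)
    have h4 := sign_link_neg (ed (3, 4) (by simp)) h3 (hall 4)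
    intro i
    fin_cases i
    exacts [sign_link_neg (ed (7, 0) (by simp)) h7 (hall 0), h1, h2, h3, h4,
      sign_link_neg (ed (4, 5) (by simp)) h4 (hall 5),
      sign_link_neg (ed (4, 6) (by simp)) h4 (hall 6), h7]

/-- the eight frame vectors of the octad from the roots -/
theorem eight_roots :
    eight none = Spor.leechU + rootV 0 ∧ eight (some 0) = Spor.leechU - rootV 0 ∧
    eight (some 10) = rootV 5 + rootV 6 ∧ eight (some 11) = rootV 6 - rootV 5 ∧
    eight (some 6) = 2 • rootV 4 + (rootV 5 + rootV 6) ∧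
    eight (some 5) = 2 • rootV 3 + (2 • rootV 4 + (rootV 5 + rootV 6)) ∧
    eight (some 4) = 2 • rootV 2 + (2 • rootV 3 + (2 • rootV 4 + (rootV 5 + rootV 6))) ∧
    eight (some 2) = 2 • rootV 1 + (2 • rootV 2 + (2 • rootV 3 + (2 • rootV 4 + (rootV 5 + rootV 6)))) := by
  have key : ∀ p, (Pi.single none 8 : GolayPt → ℤ) p = Spor.vecU p + ofL (rootL.getD 0 []) p ∧
      (Pi.single (some 0) 8 : GolayPt → ℤ) p = Spor.vecU p - ofL (rootL.getD 0 []) p ∧
      (Pi.single (some 10) 8 : GolayPt → ℤ) p = ofL (rootL.getD 5 []) p + ofL (rootL.getD 6 []) p ∧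
      (Pi.single (some 11) 8 : GolayPt → ℤ) p = ofL (rootL.getD 6 []) p - ofL (rootL.getD 5 []) p ∧
      (Pi.single (some 6) 8 : GolayPt → ℤ) p = 2 * ofL (rootL.getD 4 []) p
        + (ofL (rootL.getD 5 []) p + ofL (rootL.getD 6 []) p) ∧
      (Pi.single (some 5) 8 : GolayPt → ℤ) p = 2 * ofL (rootL.getD 3 []) p + (2 * ofL (rootL.getD 4 []) p
        + (ofL (rootL.getD 5 []) p + ofL (rootL.getD 6 []) p)) ∧
      (Pi.single (some 4) 8 : GolayPt → ℤ) p = 2 * ofL (rootL.getD 2 []) p + (2 * ofL (rootL.getD 3 []) p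
        + (2 * ofL (rootL.getD 4 []) p + (ofL (rootL.getD 5 []) p + ofL (rootL.getD 6 []) p))) ∧
      (Pi.single (some 2) 8 : GolayPt → ℤ) p = 2 * ofL (rootL.getD 1 []) p + (2 * ofL (rootL.getD 2 []) p
        + (2 * ofL (rootL.getD 3 []) p + (2 * ofL (rootL.getD 4 []) p
        + (ofL (rootL.getD 5 []) p + ofL (rootL.getD 6 []) p)))) := by decide +kernel
  refine ⟨?_, ?_, ?_, ?_, ?_, ?_, ?_, ?_⟩ <;> refine Subtype.ext (funext fun p => ?_) <;>
    obtain ⟨k1, k2, k3, k4, k5, k6, k7, k8⟩ := key p
  · exact k1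
  · exact k2
  · exact k3
  · exact k4
  all_goals simp only [two_nsmul, AddSubgroup.coe_add, Pi.add_apply, ← two_mul]
  exacts [k5, k6, k7, k8]

/-- the permutations fixing the five points, moved -/
def stabAt : List ℕ :=
  H90.stab5List.map fun p => H90.compN moveN (H90.compN p moveInvN)

theorem mem_stabAt {σ : M24} (hfix : ∀ p ∈ ([some 2, some 4, some 5, some 6, some 10] : List GolayPt),
    σ.1 p = p) : ∃ q ∈ stabAt, H90.Repr σ.1 q := by
  have hk : permOK moveN = true ∧ permOK moveInvN = true ∧
      (List.range 24).all (fun i => H90.img moveInvN (H90.img moveN i) == i) = true ∧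
      (∀ i : Fin 5, H90.img moveN i.val ∈ [2, 4, 5, 6, 10]) := by decide +kernel
  obtain ⟨h1, h2, h3, h4⟩ := hk
  set k := permN moveN with hkdef
  set k' := permN moveInvN with hk'def
  have hkk : k' * k = 1 := Subtype.ext (Equiv.ext fun x => H90.idx_injective (Fin.ext (by
    show (H90.idx (k'.1 (k.1 x))).val = (H90.idx x).val
    rw [(permN_repr h2).apply, (permN_repr h1).apply]
    exact beq_iff_eq.mp (List.all_eq_true.mp h3 _ (List.mem_range.mpr (H90.idx x).isLt)))))
  have hk' : k' = k⁻¹ := eq_inv_of_mul_eq_one_left hkk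
  have hb : ∀ i, (k⁻¹ * σ * k).1 (H90.base5 i) = H90.base5 i := fun i => by
    have hm : k.1 (H90.base5 i) ∈ ([some 2, some 4, some 5, some 6, some 10] : List GolayPt) := by
      have e : (H90.idx (k.1 (H90.base5 i))).val = H90.img moveN i.val := by
        rw [(permN_repr h1).apply, H90.base5_apply, H90.idx_pt]; rfl
      have h5 := h4 i
      rw [← e] at h5
      have hinj : ∀ x : GolayPt, (H90.idx x).val ∈ [2, 4, 5, 6, 10] →
          x ∈ ([some 2, some 4, some 5, some 6, some 10] : List GolayPt) := by decide +kernel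
      exact hinj _ h5
    show (k⁻¹).1 (σ.1 (k.1 (H90.base5 i))) = _
    rw [hfix _ hm]
    exact k.1.symm_apply_apply _
  obtain ⟨p, hp, hr⟩ := H90.mem_stab5List_of_fixes (k⁻¹ * σ * k).2 hb
  refine ⟨_, List.mem_map.mpr ⟨p, hp, rfl⟩, ?_⟩
  have := (permN_repr h1).mul (hr.mul (permN_repr h2))
  rwa [← hkdef, ← hk'def, hk', ← Subgroup.coe_mul, ← Subgroup.coe_mul,
    show k * (k⁻¹ * σ * k * k⁻¹) = σ by group] at this

theorem stabAt_no_swap : stabAt.all (fun q =>
    !(H90.img q 23 == 0 && H90.img q 0 == 23)) = true := by decide +kernel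

theorem stabAt_fixed : stabAt.all (fun q =>
    !([23, 0, 2, 4, 5, 6, 10, 11].all fun i => H90.img q i == i) ||
      fixOctL.any fun r => H90.samePerm q r) = true := by decide +kernel

theorem disc_all : (List.range 4096).all (fun n =>
    (H90.encode n &&& octN != 0) || discL.contains n) = true := by decide +kernel

theorem single_eq_eight {j i : GolayPt} {s : ℤ}
    (h : (eight j : GolayPt → ℤ) = Pi.single i s) : i = j := by
  by_contra hne
  have := congrFun h j
  rw [Pi.single_eq_of_ne (Ne.symm hne)] at this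
  simp [eight] at this

/-- the kernel is monomial -/
theorem kernel_form {h : centGrp} (hh : repHom h = 1) :
    ∃ n ∈ discL, ∃ p ∈ fixOctL, h.1 = signW n * permHom (permN p) := by
  have hU : h.1 • Spor.leechU = Spor.leechU := (mem_centGrp.mp h.2).2
  obtain ⟨r0, r0', r10, r11, r6, r5, r4, r2⟩ := eight_roots
  rcases roots_signed hh with hr | hr
  · have hfix : ∀ p ∈ octPts, h.1 • eight p = eight p := by
      intro p hp
      fin_cases hp <;>
        simp only [r0, r0', r10, r11, r6, r5, r4, r2, two_nsmul, co0_add, co0_sub, hU, hr]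
    obtain ⟨σ, hσ⟩ := mem_stdGrp_of_image (hfix none (by simp [octPts]))
    have hσfix : ∀ p ∈ octPts, σ p = p := fun p hp => by
      obtain ⟨s, -, e⟩ := hσ p
      rw [hfix p hp] at e
      exact single_eq_eight e
    obtain ⟨c, hσM, hc, he⟩ := hσ.exists_mono
    obtain ⟨d, hd⟩ := mono_eq_sign_mul hσM hc
    obtain ⟨q, hq, hrepr⟩ := mem_stabAt (σ := ⟨σ, hσM⟩) fun p hp => hσfix p (by
      fin_cases hp <;> simp [octPts])
    have hq8 : ([23, 0, 2, 4, 5, 6, 10, 11].all fun i => H90.img q i == i) = true := by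
      rw [List.all_eq_true]
      intro i hi
      have hex : ∀ i ∈ [23, 0, 2, 4, 5, 6, 10, 11], ∃ x ∈ octPts, (H90.idx x).val = i := by
        decide +kernel
      obtain ⟨x, hx, rfl⟩ := hex i hi
      rw [← hrepr.apply]
      show ((H90.idx (σ x)).val == _) = true
      rw [hσfix x hx]
      exact beq_self_eq_true _
    have h1 := List.all_eq_true.mp stabAt_fixed q hq
    rw [hq8, Bool.not_true, Bool.false_or, List.any_eq_true] at h1
    obtain ⟨r, hr', hsame⟩ := h1
    have hall : fixOctL.all permOK = true := by decide +kernel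
    have hperm : permN r = ⟨σ, hσM⟩ := Subtype.ext (Equiv.ext fun x => H90.idx_injective (Fin.ext (by
      rw [(permN_repr (List.all_eq_true.mp hall r hr')).apply, hrepr.apply]
      exact (Nat.eq_of_beq_eq_true
        (List.all_eq_true.mp hsame _ (List.mem_range.mpr (H90.idx x).isLt))).symm)))
    obtain ⟨n, hn, hnw⟩ := H90.mem_golayCode_iff.mp d.2
    refine ⟨n, ?_, r, hr', ?_⟩
    · have hd0 : ∀ p ∈ octPts, d.1 p = 0 := by
        intro p hp
        rcases zmod2_cases (d.1 p) with e | e
        · exact e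
        · exfalso
          have e2 := congrArg (fun w : leechLattice => (w : GolayPt → ℤ) p) (hfix p hp)
          simp only [he, hd, mul_smul, permHom_eight, hσfix p hp, signEl_coord, e] at e2
          simp [eight] at e2
      have h2 := List.all_eq_true.mp disc_all n (List.mem_range.mpr hn)
      simp only [Bool.or_eq_true, bne_iff_ne, List.contains_iff_mem] at h2
      refine h2.resolve_left fun hne => hne (Nat.eq_of_testBit_eq fun j => ?_)
      rw [Nat.zero_testBit, Nat.testBit_and]
      cases hb : octN.testBit j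
      · simp
      · have hj : ∀ j : ℕ, octN.testBit j = true → ∃ x ∈ octPts, (H90.idx x).val = j := by
          intro j hb
          have hlt : j < 24 := by
            by_contra hge
            rw [Nat.testBit_lt_two_pow (lt_of_lt_of_le (by decide +kernel : octN < 2 ^ 24)
              (Nat.pow_le_pow_right (by norm_num) (by omega)))] at hb
            exact absurd hb (by simp)
          have hex : ∀ j : Fin 24, octN.testBit j.val = true → ∃ x ∈ octPts, (H90.idx x).val = j.val := by
            decide +kernel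
          exact hex ⟨j, hlt⟩ hb
        obtain ⟨x, hx, rfl⟩ := hj j hb
        have e := hd0 x hx
        rw [hnw] at e
        simp only [H90.wordOf] at e
        cases hbit : (H90.encode n).testBit (H90.idx x).val
        · rfl
        · rw [hbit] at e; exact absurd e (by decide)
    · rw [he, hd, hperm, signW, show d = ⟨H90.wordOf (H90.encode n), H90.wordOf_encode_mem n⟩ from
        Subtype.ext hnw]
  · exfalso
    have e0 : h.1 • eight none = eight (some 0) := by
      rw [r0, co0_add, hU, hr, r0', sub_eq_add_neg]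
    obtain ⟨σ, hσ⟩ := mem_stdGrp_of_image e0
    have hne : ∀ p, h.1 • eight p = -eight p → σ p = p := fun p hp => by
      obtain ⟨s, -, e⟩ := hσ p
      rw [hp, AddSubgroup.coe_neg] at e
      have e' : (eight p : GolayPt → ℤ) = Pi.single (σ p) (-s) := by
        rw [Pi.single_neg, ← e, neg_neg]
      exact single_eq_eight e'
    have hswap : σ none = some 0 ∧ σ (some 0) = none := by
      refine ⟨?_, ?_⟩
      · obtain ⟨s, -, e⟩ := hσ none
        rw [e0] at e
        exact single_eq_eight e
      · obtain ⟨s, -, e⟩ := hσ (some 0)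
        rw [show h.1 • eight (some 0) = eight none from by
          rw [r0', co0_sub, hU, hr, sub_neg_eq_add, ← r0]] at e
        exact single_eq_eight e
    obtain ⟨c, hσM, -, -⟩ := hσ.exists_mono
    obtain ⟨q, hq, hrepr⟩ := mem_stabAt (σ := ⟨σ, hσM⟩) fun p hp => hne p (by
      fin_cases hp <;> simp only [r10, r6, r5, r4, r2, two_nsmul, co0_add, hr] <;> abel)
    have h1 := List.all_eq_true.mp stabAt_no_swap q hq
    have a1 := hrepr.apply none
    have a2 := hrepr.apply (some 0)
    simp only [hswap.1, hswap.2] at a1 a2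
    rw [show H90.img q 23 = 0 from a1.symm, show H90.img q 0 = 23 from a2.symm] at h1
    simp at h1

end H95.Co2Cent
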