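import Cfsg.Agent.H95.Co2Cent.Core
import Cfsg.Agent.H68.ExtraComm
import Cfsg.Prelude.Def_Spor_Conway

/-!
An involution of `Co2` with centraliser `2^{1+8}.Sp(6, 2)`.
-/

set_option autoImplicit false

namespace H95.Co2Cent

open Cfsg Finset

theorem tEl_fix : tEl • Spor.leechU = Spor.leechU := mem_fixPart_iff.mp leechU_mem

/-- the involution of `Co2` -/
noncomputable def t2 : Spor.Co2 := ⟨tEl.1, ⟨tEl.2, tEl_fix⟩⟩

theorem orderOf_t2 : orderOf t2 = 2 := by
  refine orderOf_eq_prime_iff.mpr ⟨Subtype.ext ?_, fun h => ?_⟩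
  · rw [pow_two]
    show tEl.1 * tEl.1 = 1
    have h : tEl * tEl = (1 : Co0) := signEl_sq _
    exact congrArg Subtype.val h
  · have h1 : tEl.1 = 1 := congrArg Subtype.val h
    have e := congrArg (fun w : leechLattice => (w : GolayPt → ℤ) (some 1))
      (show tEl • eight (some 1) = eight (some 1) by
        show tEl.1 (eight (some 1)) = _
        rw [h1]; rfl)
    have h0 : onOct (some 1) = false := by decide +kernel
    simp [tEl_coord, h0, eight] at e

/-- the centraliser in `Co2` is the group studied -/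
noncomputable def centEquiv :
    Subgroup.centralizer ({t2} : Set Spor.Co2) ≃* centGrp where
  toFun c := ⟨⟨c.1.1, c.1.2.1⟩, mem_centGrp.mpr
    ⟨Subtype.ext (show c.1.1 * tEl.1 = tEl.1 * c.1.1 from
      congrArg Subtype.val (Subgroup.mem_centralizer_singleton_iff.mp c.2)), c.1.2.2⟩⟩
  invFun h := ⟨⟨h.1.1, ⟨h.1.2, (mem_centGrp.mp h.2).2⟩⟩,
    Subgroup.mem_centralizer_singleton_iff.mpr (Subtype.ext (show h.1.1 * tEl.1 = tEl.1 * h.1.1 from
      congrArg Subtype.val (mem_centGrp.mp h.2).1))⟩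
  left_inv _ := rfl
  right_inv _ := rfl
  map_mul' _ _ := rfl

theorem centraliser_shape : orderOf t2 = 2 ∧
    IsExtraspecial 2 (pCore 2 ↥(Subgroup.centralizer ({t2} : Set Spor.Co2))) ∧
    Nat.card (pCore 2 ↥(Subgroup.centralizer ({t2} : Set Spor.Co2))) = 2 ^ 9 ∧
    Nonempty (↥(Subgroup.centralizer ({t2} : Set Spor.Co2)) ⧸
      pCore 2 ↥(Subgroup.centralizer ({t2} : Set Spor.Co2)) ≃*
        Matrix.symplecticGroup (Fin 3) (ZMod 2)) := by
  have hmap : (pCore 2 ↥(Subgroup.centralizer ({t2} : Set Spor.Co2))).map centEquiv.toMonoidHom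
      = repHom.ker := by rw [← pCore_centGrp]; exact H1.map_pCore_equiv 2 centEquiv
  let e : pCore 2 ↥(Subgroup.centralizer ({t2} : Set Spor.Co2)) ≃* repHom.ker :=
    (centEquiv.subgroupMap _).trans (MulEquiv.subgroupCongr hmap)
  refine ⟨orderOf_t2, H68.isExtraspecial_of_equiv e.symm ker_extraspecial,
    (Nat.card_congr e.toEquiv).trans kerCard, ⟨?_⟩⟩
  exact (QuotientGroup.congr _ _ centEquiv hmap).trans
    (QuotientGroup.quotientKerEquivOfSurjective repHom repHom_surjective)

end H95.Co2Cent
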