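import Cfsg.Agent.H95.Co2Cent.Part
import Cfsg.Prelude.Def_Spor_Conway

/-!
The six-dimensional symplectic space of the octad part orthogonal to `(4, 4, 0²²)`.
-/

set_option autoImplicit false

namespace H95.Co2Cent

open Cfsg Finset

/-- the index type -/
abbrev I6 : Type := Fin 3 ⊕ Fin 3

/-- the vector space -/
abbrev V6 : Type := I6 → ZMod 2

/-- position of an index -/
def pos6 : I6 → ℕ := Sum.elim (fun i => i.val) (fun i => i.val + 3)

/-- exchange of the two halves -/
def swap6 : I6 → I6 := Sum.elim Sum.inr Sum.inl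

/-- a list as a vector -/
def ofL (l : List ℤ) : GolayPt → ℤ := fun p => l.getD (H90.idx p).val 0

theorem basis_check : ∀ m : I6, H96.Check.checkB (ofL (basisL.getD (pos6 m) [])) = true := by
  decide +kernel

/-- the symplectic basis -/
def bvec (m : I6) : leechLattice :=
  ⟨ofL (basisL.getD (pos6 m) []), H96.Check.checkB_spec (basis_check m)⟩

theorem bvec_mem (m : I6) : bvec m ∈ fixPart := by
  have h : ∀ m : I6, ∀ p, onOct p = false → ofL (basisL.getD (pos6 m) []) p = 0 := by decide +kernel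
  exact h m

theorem leechU_mem : Spor.leechU ∈ fixPart := by
  have h : ∀ p, onOct p = false → Spor.vecU p = 0 := by decide +kernel
  exact h

theorem leechU_basis (m : I6) : ldot Spor.leechU (bvec m) = 0 := by
  have h : ∀ m : I6, dotInt Spor.vecU (ofL (basisL.getD (pos6 m) [])) = 0 := by decide +kernel
  exact h m

theorem basis_gram (i j : I6) :
    ((ldot (bvec i) (bvec j) / 16 : ℤ) : ZMod 2) = if j = swap6 i then 1 else 0 := by
  have h : ∀ i j : I6, ((dotInt (ofL (basisL.getD (pos6 i) [])) (ofL (basisL.getD (pos6 j) []))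
      / 16 : ℤ) : ZMod 2) = if j = swap6 i then 1 else 0 := by decide +kernel
  exact h i j

theorem bform_add_left {a b c : leechLattice} (ha : a ∈ fixPart) (hb : b ∈ fixPart)
    (hc : c ∈ fixPart) : ldot (a + b) c / 16 = ldot a c / 16 + ldot b c / 16 := by
  rw [leechLike.add_left, Int.add_ediv_of_dvd_left (dvd16 ha hc)]

/-- the map to the symplectic space -/
def psi : fixPart →+ V6 where
  toFun u m := ((ldot u.1 (bvec (swap6 m)) / 16 : ℤ) : ZMod 2)
  map_zero' := funext fun m => by
    show ((ldot (0 : leechLattice) _ / 16 : ℤ) : ZMod 2) = 0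
    rw [show ldot (0 : leechLattice) (bvec (swap6 m)) = 0 from by
      simp [ldot, dotInt]]
    simp
  map_add' a b := funext fun m => by
    show ((ldot (a.1 + b.1) _ / 16 : ℤ) : ZMod 2) = _
    rw [bform_add_left a.2 b.2 (bvec_mem _), Int.cast_add]
    rfl

/-- the basis inside the part -/
def bfix (m : I6) : fixPart := ⟨bvec m, bvec_mem m⟩

/-- the fixed vector inside the part -/
def ufix : fixPart := ⟨Spor.leechU, leechU_mem⟩

theorem psi_bfix (j : I6) : psi (bfix j) = Pi.single j 1 := funext fun m => by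
  show ((ldot (bvec j) (bvec (swap6 m)) / 16 : ℤ) : ZMod 2) = _
  rw [basis_gram, Pi.single_apply]
  revert j m; decide

theorem psi_ufix : psi ufix = 0 := funext fun m => by
  show ((ldot Spor.leechU (bvec (swap6 m)) / 16 : ℤ) : ZMod 2) = 0
  rw [leechU_basis]; rfl

theorem zmod2_two (a : V6) : a + a = 0 := funext fun m => by
  show a m + a m = 0
  generalize a m = x
  revert x; decide

theorem even_of_cast {x : ℤ} (h : ((x : ℤ) : ZMod 2) = 0) : (2 : ℤ) ∣ x :=
  (ZMod.intCast_zmod_eq_zero_iff_dvd x 2).mp h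

/-- what is killed by `psi` -/
theorem psi_eq_zero {u : fixPart} (hperp : ldot u.1 Spor.leechU = 0) (h : psi u = 0) :
    ∃ (n : ℤ) (w : fixPart), u = n • ufix + 2 • w := by
  obtain ⟨e, c, he, hc, hs⟩ := part_form u.2
  have on : ∀ p ∈ ([none, some 0, some 2, some 4, some 5, some 6, some 10, some 11] :
      List GolayPt), (u.1 : GolayPt → ℤ) p = 2 * (e + 2 * c p) := fun p hp => by
    rw [hc, (onOct_list p).mpr hp, if_pos rfl]
  have hd : ∀ w : leechLattice, ldot u.1 w
      = 2 * (e + 2 * c none) * (w : GolayPt → ℤ) none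
      + 2 * (e + 2 * c (some 0)) * (w : GolayPt → ℤ) (some 0)
      + 2 * (e + 2 * c (some 2)) * (w : GolayPt → ℤ) (some 2)
      + 2 * (e + 2 * c (some 4)) * (w : GolayPt → ℤ) (some 4)
      + 2 * (e + 2 * c (some 5)) * (w : GolayPt → ℤ) (some 5)
      + 2 * (e + 2 * c (some 6)) * (w : GolayPt → ℤ) (some 6)
      + 2 * (e + 2 * c (some 10)) * (w : GolayPt → ℤ) (some 10)
      + 2 * (e + 2 * c (some 11)) * (w : GolayPt → ℤ) (some 11) := fun w => by
    rw [ldot_part u.2, on none (by simp), on (some 0) (by simp), on (some 2) (by simp),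
      on (some 4) (by simp), on (some 5) (by simp), on (some 6) (by simp),
      on (some 10) (by simp), on (some 11) (by simp)]
  have hU : (Spor.leechU : GolayPt → ℤ) = Spor.vecU := rfl
  rw [hd, hU] at hperp
  simp +decide [Spor.vecU] at hperp
  have hk : ∀ m : I6, (32 : ℤ) ∣ ldot u.1 (bvec m) := fun m => by
    have h2 := congrFun h (swap6 m)
    change ((ldot u.1 (bvec (swap6 (swap6 m))) / 16 : ℤ) : ZMod 2) = 0 at h2
    rw [(show ∀ m : I6, swap6 (swap6 m) = m by decide) m] at h2
    have h3 := even_of_cast h2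
    have h4 := dvd16 u.2 (bvec_mem m)
    omega
  have a0 := hk (Sum.inl 0)
  have a1 := hk (Sum.inl 1)
  have a2 := hk (Sum.inl 2)
  have b0 := hk (Sum.inr 0)
  have b1 := hk (Sum.inr 1)
  have b2 := hk (Sum.inr 2)
  rw [hd] at a0 a1 a2 b0 b1 b2
  have i23 : (H90.idx (none : GolayPt)).val = 23 := rfl
  have i0 : (H90.idx (some 0 : GolayPt)).val = 0 := rfl
  have i2 : (H90.idx (some 2 : GolayPt)).val = 2 := rfl
  have i4 : (H90.idx (some 4 : GolayPt)).val = 4 := rfl
  have i5 : (H90.idx (some 5 : GolayPt)).val = 5 := rfl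
  have i6 : (H90.idx (some 6 : GolayPt)).val = 6 := rfl
  have i10 : (H90.idx (some 10 : GolayPt)).val = 10 := rfl
  have i11 : (H90.idx (some 11 : GolayPt)).val = 11 := rfl
  simp [bvec, ofL, basisL, pos6, i23, i0, i2, i4, i5, i6, i10, i11] at a0 a1 a2 b0 b1 b2
  obtain ⟨he0, k24, k25, k610, k611, k26, ksum, k0⟩ : e = 0 ∧
      (2 : ℤ) ∣ c (some 2) - c (some 4) ∧ (2 : ℤ) ∣ c (some 2) - c (some 5) ∧
      (2 : ℤ) ∣ c (some 6) - c (some 10) ∧ (2 : ℤ) ∣ c (some 6) - c (some 11) ∧
      (2 : ℤ) ∣ c (some 2) - c (some 6) ∧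
      (4 : ℤ) ∣ c (some 4) + c (some 5) + c (some 6) + c (some 10) + c (some 11) - c (some 2)
        + 2 * c none ∧ c (some 0) = -c none := by
    clear hd on hc hk h
    omega
  subst he0
  clear a0 a1 a2 b0 b1 b2 hperp
  set f : ℤ := c (some 2) % 2 with hf
  set d : GolayPt → ℤ := fun p =>
    if p = none then 0 else if p = some 0 then -c none else (c p - f) / 2 with hd'
  have e0 : d none = 0 := by simp [hd']
  have e1 : d (some 0) = -c none := by simp [hd']
  have eo : ∀ p : GolayPt, p ≠ none → p ≠ some 0 → d p = (c p - f) / 2 := fun p h1 h2 => by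
    simp [hd', h1, h2]
  have q2 := eo (some 2) (by decide) (by decide)
  have q4 := eo (some 4) (by decide) (by decide)
  have q5 := eo (some 5) (by decide) (by decide)
  have q6 := eo (some 6) (by decide) (by decide)
  have q10 := eo (some 10) (by decide) (by decide)
  have q11 := eo (some 11) (by decide) (by decide)
  obtain ⟨w, hw, hwc⟩ := part_mem (e := f) (c := d) (by omega) (by
    rw [e0, e1, q2, q4, q5, q6, q10, q11]; omega)
  refine ⟨c none - f, ⟨w, hw⟩, Subtype.ext (Subtype.ext (funext fun p => ?_))⟩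
  show (u.1 : GolayPt → ℤ) p = (c none - f) * Spor.vecU p + (((2 : ℕ) • w : leechLattice) :
    GolayPt → ℤ) p
  rw [two_nsmul, AddSubgroup.coe_add, Pi.add_apply, hwc]
  cases hp : onOct p
  · have hv : Spor.vecU p = 0 := leechU_mem p hp
    rw [hc, hp, hv]; simp
  · rw [hc, hp, if_pos rfl, if_pos rfl]
    have hl := (onOct_list p).mp hp
    fin_cases hl <;> simp +decide only [Spor.vecU, if_true, if_false, e0, e1, q2, q4, q5, q6, q10,
      q11] <;> omega

theorem decompose (u : fixPart) (hperp : ldot u.1 Spor.leechU = 0) :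
    ∃ (n : ℤ) (w : fixPart),
      u = (∑ m, ((psi u m).val • bfix m)) + (n • ufix + 2 • w) := by
  set u' := u - ∑ m, ((psi u m).val • bfix m) with hu'
  have hpsi : psi u' = 0 := by
    rw [hu', map_sub, map_sum, sub_eq_zero]
    funext k
    rw [Finset.sum_apply, sum_eq_single k]
    · rw [map_nsmul, psi_bfix, Pi.smul_apply, Pi.single_eq_same, nsmul_one, ZMod.natCast_val,
        ZMod.cast_id]
    · intro m _ hm
      rw [map_nsmul, psi_bfix, Pi.smul_apply, Pi.single_eq_of_ne (Ne.symm hm), smul_zero]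
    · intro h; exact absurd (mem_univ k) h
  have hp' : ldot u'.1 Spor.leechU = 0 := by
    let φ : fixPart →+ ℤ := AddMonoidHom.mk' (fun z => ldot z.1 Spor.leechU)
      fun a b => leechLike.add_left _ _ _
    show φ u' = 0
    rw [hu', map_sub, map_sum]
    have : ∀ m, φ ((psi u m).val • bfix m) = 0 := fun m => by
      rw [map_nsmul, show φ (bfix m) = 0 from by
        show ldot (bvec m) Spor.leechU = 0
        rw [ldot_comm, leechU_basis], smul_zero]
    simp only [this, sum_const_zero, sub_zero]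
    exact hperp
  obtain ⟨n, w, hn⟩ := psi_eq_zero hp' hpsi
  exact ⟨n, w, by rw [← hn, hu']; abel⟩

end H95.Co2Cent
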