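import Cfsg.Agent.H95.Co2Cent.Data

/-!
The vectors of the lattice supported on an octad, read modulo two.
-/

set_option autoImplicit false

namespace H95.Co2Cent

open Cfsg Finset

/-- membership in the octad -/
def onOct (p : GolayPt) : Bool := octN.testBit (H90.idx p).val

theorem onOct_list : ∀ p : GolayPt, onOct p = true ↔
    p ∈ [none, some 0, some 2, some 4, some 5, some 6, some 10, some 11] := by decide +kernel

/-- supported on the octad -/
def fixPart : AddSubgroup leechLattice where
  carrier := {u | ∀ p, onOct p = false → (u : GolayPt → ℤ) p = 0}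
  zero_mem' := fun _ _ => rfl
  add_mem' := fun {a b} ha hb p hp => by
    rw [AddSubgroup.coe_add, Pi.add_apply, ha p hp, hb p hp, add_zero]
  neg_mem' := fun {a} ha p hp => by rw [AddSubgroup.coe_neg, Pi.neg_apply, ha p hp, neg_zero]

/-- sums of functions supported on the octad -/
theorem sum_oct (f : GolayPt → ℤ) (h : ∀ p, onOct p = false → f p = 0) :
    ∑ p, f p = f none + f (some 0) + f (some 2) + f (some 4) + f (some 5) + f (some 6)
      + f (some 10) + f (some 11) := by
  rw [← sum_subset (subset_univ ([none, some 0, some 2, some 4, some 5, some 6, some 10,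
    some 11].toFinset : Finset GolayPt)) (fun p _ hp => h p (by
      cases e : onOct p
      · rfl
      · exact absurd (List.mem_toFinset.mpr ((onOct_list p).mp e)) hp)),
    List.sum_toFinset _ (by decide +kernel)]
  simp only [List.map_cons, List.map_nil, List.sum_cons, List.sum_nil]
  ring

/-- the code words supported on the octad -/
theorem oct_words : (List.range 4096).all (fun n =>
    (H90.encode n &&& compN16 != 0) || H90.encode n == 0 || H90.encode n == octN) = true := by
  decide +kernel

theorem word_on_oct {a : GolayPt → ZMod 2} (ha : a ∈ golayCode)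
    (h : ∀ p, onOct p = false → a p = 0) : a = 0 ∨ a = H90.wordOf octN := by
  obtain ⟨n, hn, rfl⟩ := H90.mem_golayCode_iff.mp ha
  have hc := List.all_eq_true.mp oct_words n (List.mem_range.mpr hn)
  simp only [Bool.or_eq_true, bne_iff_ne, beq_iff_eq] at hc
  rcases hc with (hc | hc) | hc
  · exfalso
    refine hc (Nat.eq_of_testBit_eq fun j => ?_)
    rw [Nat.zero_testBit, Nat.testBit_and]
    by_cases hj : j < 24
    · have hsplit : ∀ j : Fin 24, compN16.testBit j.val = !octN.testBit j.val := by decide +kernel
      cases hb : octN.testBit j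
      · have e := h (H90.pt ⟨j, hj⟩) (by simp [onOct, H90.idx_pt, hb])
        simp only [H90.wordOf, H90.idx_pt] at e
        cases hx : (H90.encode n).testBit j
        · rfl
        · rw [hx] at e; exact absurd e (by decide)
      · rw [hsplit ⟨j, hj⟩, hb]; simp
    · rw [Nat.testBit_lt_two_pow (x := compN16) (i := j) (lt_of_lt_of_le (by decide +kernel :
        compN16 < 2 ^ 24) (Nat.pow_le_pow_right (by norm_num) (by omega)))]
      simp
  · exact Or.inl (by rw [hc]; funext p; simp [H90.wordOf])
  · exact Or.inr (by rw [hc])

theorem val_oct : ∀ p : GolayPt, ((H90.wordOf octN p).val : ℤ) = if onOct p then 1 else 0 := by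
  decide +kernel

/-- the coordinates on the octad are twice integers of one parity, of sum a multiple of four -/
theorem part_form {u : leechLattice} (hu : u ∈ fixPart) :
    ∃ (e : ℤ) (c : GolayPt → ℤ), (e = 0 ∨ e = 1) ∧
      (∀ p, (u : GolayPt → ℤ) p = if onOct p then 2 * (e + 2 * c p) else 0) ∧
      (2 : ℤ) ∣ c none + c (some 0) + c (some 2) + c (some 4) + c (some 5) + c (some 6)
        + c (some 10) + c (some 11) := by
  obtain ⟨m, hm, a, ha, z, hz, hs⟩ := exists_form u.2
  have hoff : onOct (some 1) = false := by decide +kernel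
  have h1 := hz (some 1)
  rw [hu _ hoff] at h1
  have hm0 : m = 0 := by omega
  subst hm0
  have ha0 : ∀ p, onOct p = false → a p = 0 := fun p hp => by
    have := hz p
    rw [hu p hp] at this
    rcases zmod2_cases (a p) with e | e
    · exact e
    · rw [e, show ((1 : ZMod 2).val : ℤ) = 1 from rfl] at this
      omega
  have hsum := sum_oct _ hu
  rw [hsum] at hs
  have key : ∀ e : ℤ, (e = 0 ∨ e = 1) → (∀ p, ((a p).val : ℤ) = if onOct p then e else 0) →
      ∃ (e : ℤ) (c : GolayPt → ℤ), (e = 0 ∨ e = 1) ∧
      (∀ p, (u : GolayPt → ℤ) p = if onOct p then 2 * (e + 2 * c p) else 0) ∧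
      (2 : ℤ) ∣ c none + c (some 0) + c (some 2) + c (some 4) + c (some 5) + c (some 6)
        + c (some 10) + c (some 11) := by
    intro e he hv
    refine ⟨e, z, he, fun p => ?_, ?_⟩
    · cases hp : onOct p
      · rw [hu p hp]; rfl
      · have := hz p
        rw [hv p, hp] at this
        simp only [if_true] at this ⊢
        omega
    · have on : ∀ p ∈ ([none, some 0, some 2, some 4, some 5, some 6, some 10, some 11] :
          List GolayPt), (u : GolayPt → ℤ) p = 2 * e + 4 * z p := fun p hp => by
        rw [hz p, hv p, (onOct_list p).mpr hp]; simp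
      rw [on none (by simp), on (some 0) (by simp), on (some 2) (by simp), on (some 4) (by simp),
        on (some 5) (by simp), on (some 6) (by simp), on (some 10) (by simp),
        on (some 11) (by simp)] at hs
      omega
  rcases word_on_oct ha ha0 with h | h
  · exact key 0 (Or.inl rfl) fun p => by rw [h]; simp
  · exact key 1 (Or.inr rfl) fun p => by rw [h, val_oct p]

theorem part_mem {e : ℤ} {c : GolayPt → ℤ} (he : e = 0 ∨ e = 1)
    (hs : (2 : ℤ) ∣ c none + c (some 0) + c (some 2) + c (some 4) + c (some 5) + c (some 6)
      + c (some 10) + c (some 11)) :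
    ∃ w : leechLattice, w ∈ fixPart ∧
      ∀ p, (w : GolayPt → ℤ) p = if onOct p then 2 * (e + 2 * c p) else 0 := by
  set x : GolayPt → ℤ := fun p => if onOct p then 2 * (e + 2 * c p) else 0 with hx
  have hs' : 8 ∣ (∑ p, x p) - 4 * 0 := by
    rw [sum_oct x fun p hp => by simp [hx, hp]]
    have on : ∀ p ∈ ([none, some 0, some 2, some 4, some 5, some 6, some 10, some 11] :
        List GolayPt), x p = 2 * (e + 2 * c p) := fun p hp => by
      simp [hx, (onOct_list p).mpr hp]
    rw [on none (by simp), on (some 0) (by simp), on (some 2) (by simp), on (some 4) (by simp),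
      on (some 5) (by simp), on (some 6) (by simp), on (some 10) (by simp), on (some 11) (by simp)]
    omega
  have hmem : x ∈ leechLattice := by
    rcases he with rfl | rfl
    · refine mem_of_form (a := 0) (z := fun p => if onOct p then c p else 0) (zero_mem _)
        (fun p => ?_) hs'
      cases hp : onOct p <;> simp [hx, hp]; ring
    · refine mem_of_form (a := H90.wordOf octN) (z := fun p => if onOct p then c p else 0) ?_
        (fun p => ?_) hs'
      · exact (H90.wordOf_mem_iff (by decide +kernel)).mpr (by decide +kernel)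
      · cases hp : onOct p <;> simp [hx, hp, val_oct p]; ring
  exact ⟨⟨x, hmem⟩, fun p hp => by simp [hx, hp], fun p => rfl⟩

theorem ldot_part {u w : leechLattice} (hu : u ∈ fixPart) :
    ldot u w = (u : GolayPt → ℤ) none * (w : GolayPt → ℤ) none
      + (u : GolayPt → ℤ) (some 0) * (w : GolayPt → ℤ) (some 0)
      + (u : GolayPt → ℤ) (some 2) * (w : GolayPt → ℤ) (some 2)
      + (u : GolayPt → ℤ) (some 4) * (w : GolayPt → ℤ) (some 4)
      + (u : GolayPt → ℤ) (some 5) * (w : GolayPt → ℤ) (some 5)
      + (u : GolayPt → ℤ) (some 6) * (w : GolayPt → ℤ) (some 6)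
      + (u : GolayPt → ℤ) (some 10) * (w : GolayPt → ℤ) (some 10)
      + (u : GolayPt → ℤ) (some 11) * (w : GolayPt → ℤ) (some 11) := by
  show dotInt _ _ = _
  rw [dotInt]
  exact sum_oct _ fun p hp => by rw [hu p hp, zero_mul]

theorem dvd16 {u w : leechLattice} (hu : u ∈ fixPart) (hw : w ∈ fixPart) :
    16 ∣ ldot u w := by
  obtain ⟨e, c, he, hc, hs⟩ := part_form hu
  obtain ⟨f, d, hf, hd, ht⟩ := part_form hw
  have on : ∀ p ∈ ([none, some 0, some 2, some 4, some 5, some 6, some 10, some 11] :
      List GolayPt), onOct p = true := fun p hp => (onOct_list p).mpr hp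
  rw [ldot_part hu]
  simp only [hc, hd, on none (by simp), on (some 0) (by simp), on (some 2) (by simp),
    on (some 4) (by simp), on (some 5) (by simp), on (some 6) (by simp), on (some 10) (by simp),
    on (some 11) (by simp), if_true]
  obtain ⟨a, ha⟩ := hs
  obtain ⟨b, hb⟩ := ht
  refine ⟨2 * e * f + e * b + f * a + c none * d none + c (some 0) * d (some 0)
    + c (some 2) * d (some 2) + c (some 4) * d (some 4) + c (some 5) * d (some 5)
    + c (some 6) * d (some 6) + c (some 10) * d (some 10) + c (some 11) * d (some 11), ?_⟩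
  linear_combination 8 * f * ha + 8 * e * hb

end H95.Co2Cent
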